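import Cfsg.Agent.Sz.Partition
set_option autoImplicit false

/-!
Covers of the Suzuki group by nilpotent subgroups are not minimal.
-/

namespace CfsgLib.Sz

/-- A member of the partition. -/
def IsPart {H : Type*} [Group H] (K : Set ℕ) (U : Subgroup H) : Prop :=
  (∃ P : Sylow 2 H, U = (P : Subgroup H)) ∨ (IsCyclic ↥U ∧ Nat.card ↥U ∈ K)

section Generic

variable {H : Type*} [Group H] [Finite H] {K : Set ℕ} (h : Trich H K) (hodd : ∀ k ∈ K, 1 < k ∧ ¬ 2 ∣ k)
    (hcop : ∀ k ∈ K, ∀ l ∈ K, k ∣ l → k = l)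

include h hodd hcop

theorem part_comm {g z : H} {U : Subgroup H} (hg : g ≠ 1) (hU : IsPart K U) (hgU : g ∈ U) (hz : z * g = g * z) :
    z ∈ U := by
  obtain ⟨V, -, hV⟩ := h.partition hodd hcop g hg
  have hzc : z ∈ Subgroup.centralizer ({g} : Set H) := Subgroup.mem_centralizer_singleton_iff.mpr hz
  rcases h g hg with ⟨h1, -⟩ | ⟨h1, h2⟩
  · obtain ⟨P, hP⟩ := h1.exists_le_sylow
    rw [hV U ⟨hU, hgU⟩, ← hV P ⟨Or.inl ⟨P, rfl⟩, hP (mem_centralizer_self g)⟩]
    exact hP hzc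
  · rw [hV U ⟨hU, hgU⟩, ← hV _ ⟨Or.inr ⟨h1, h2⟩, mem_centralizer_self g⟩]
    exact hzc

theorem card_parts_le (𝓐 : Finset (Subgroup H)) (hcov : ∀ g : H, ∃ A ∈ 𝓐, g ∈ A)
    (hnil : ∀ A ∈ 𝓐, Group.IsNilpotent ↥A) (parts : Finset (Subgroup H))
    (hparts : ∀ U ∈ parts, IsPart K U ∧ U ≠ ⊥) : parts.card ≤ 𝓐.card := by
  classical
  have hex : ∀ U : {U // U ∈ parts}, ∃ g : H, g ∈ U.1 ∧ g ≠ 1 := fun U => by
    obtain ⟨g, hg⟩ := Subgroup.ne_bot_iff_exists_ne_one.mp (hparts U.1 U.2).2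
    exact ⟨g.1, g.2, fun e => hg (Subtype.ext e)⟩
  choose w hwU hw1 using hex
  choose c hc hcw using fun U => hcov (w U)
  rw [← Fintype.card_coe]
  refine (Finset.card_le_card_of_injOn (s := (Finset.univ : Finset {U // U ∈ parts})) c (fun U _ => hc U) ?_).trans' le_rfl
  intro U _ V _ e
  haveI := hnil _ (hc U)
  have hn : Nontrivial (c U) := ⟨⟨⟨w U, hcw U⟩, 1, fun e => hw1 U (congrArg Subtype.val e)⟩⟩
  haveI : Nontrivial (Subgroup.center (c U)) :=
    (Subgroup.nontrivial_iff_ne_bot _).mpr (Group.IsNilpotent.center_ne_bot _)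
  obtain ⟨⟨z, hzc⟩, hz1⟩ := exists_ne (1 : Subgroup.center (c U))
  have hz : (z : H) ≠ 1 := fun e => hz1 (Subtype.ext (Subtype.ext e))
  have hcomm : ∀ x ∈ c U, (z : H) * x = x * z := fun x hx =>
    (congrArg Subtype.val (Subgroup.mem_center_iff.mp hzc ⟨x, hx⟩)).symm
  obtain ⟨W, -, hW⟩ := h.partition hodd hcop z hz
  apply Subtype.ext
  rw [hW U.1 ⟨(hparts U.1 U.2).1, part_comm h hodd hcop (hw1 U) (hparts U.1 U.2).1 (hwU U) (hcomm _ (hcw U))⟩,
    hW V.1 ⟨(hparts V.1 V.2).1, part_comm h hodd hcop (hw1 V) (hparts V.1 V.2).1 (hwU V) (hcomm _ (e ▸ hcw V))⟩]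

end Generic

variable {F : Type*} [Field F] [Fintype F] {m : ℕ} (h : Hyp F m)
include h

theorem no_nilpotent_minimal_cover :
    ¬ ∃ 𝓐 : Finset (Subgroup (G F m)), ((∀ A ∈ 𝓐, A ≠ ⊤) ∧ (∀ g : G F m, ∃ A ∈ 𝓐, g ∈ A)) ∧
      (∀ 𝓑 : Finset (Subgroup (G F m)), (∀ A ∈ 𝓑, A ≠ ⊤) ∧ (∀ g : G F m, ∃ A ∈ 𝓑, g ∈ A) → 𝓐.card ≤ 𝓑.card) ∧
      (∀ A ∈ 𝓐, Group.IsNilpotent ↥A) := by
  classical
  rintro ⟨𝓐, ⟨-, hcov⟩, hmin, hnil⟩
  letI : Fintype (G F m) := Fintype.ofFinite _
  letI : Fintype (Ov F m) := Fintype.ofFinite _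
  letI : Fintype (Subgroup (G F m)) := Fintype.ofFinite _
  letI : Fintype (Sylow 2 (G F m)) := Fintype.ofFinite _
  haveI : Fact (Nat.Prime 2) := ⟨Nat.prime_two⟩
  choose k hk using exists_move h
  let stab : Ov F m → Subgroup (G F m) := fun p => (borel h).map (MulAut.conj (k p)).toMonoidHom
  have hstab : ∀ g p, act h g p = p → g ∈ stab p := fun g p hg =>
    ⟨(k p)⁻¹ * g * k p, conj_fix h (hk p) hg, by show k p * ((k p)⁻¹ * g * k p) * (k p)⁻¹ = g; group⟩
  set q := Fintype.card F with hq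
  set r := 2 ^ (m + 1) with hr
  set tor : Finset (Subgroup (G F m)) := Finset.univ.filter fun U =>
    IsCyclic ↥U ∧ (Nat.card ↥U = q + r + 1 ∨ Nat.card ↥U = q - r + 1) with htor
  set syl : Finset (Subgroup (G F m)) := Finset.univ.image fun P : Sylow 2 (G F m) => (P : Subgroup (G F m)) with hsyl
  have h8 := h.q_ge
  have hr2 : r * r = 2 * q := by
    rw [hr, hq, h.hF, ← pow_add, ← pow_succ']
    congr 1
    omega
  have hrq : 2 * r ≤ q := by nlinarith
  have hr1 : 4 ≤ r := (show 4 = 2 ^ 2 by norm_num).le.trans (Nat.pow_le_pow_right (by norm_num) (by have := h.hm; omega))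
  set 𝓑 := Finset.univ.image stab ∪ tor with hB
  have h1 : ∀ A ∈ 𝓑, A ≠ ⊤ := by
    intro A hA
    rcases Finset.mem_union.mp hA with hA | hA
    · obtain ⟨p, -, rfl⟩ := Finset.mem_image.mp hA
      intro e
      refine (borel_coatom h).1 (Subgroup.map_injective (f := (MulAut.conj (k p)).toMonoidHom) (MulAut.conj (k p)).injective ?_)
      rw [Subgroup.map_top_of_surjective _ (MulAut.conj (k p)).surjective]
      exact e
    · intro e
      simp only [htor, Finset.mem_filter, e, Subgroup.card_top, card_G h, ← hq] at hA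
      have : 3 * q ≤ (q ^ 2 + 1) * (q ^ 2 * (q - 1)) :=
        Nat.mul_le_mul (by nlinarith) ((Nat.le_self_pow two_ne_zero q).trans (Nat.le_mul_of_pos_right _ (by omega)))
      omega
  have h2 : ∀ g : G F m, ∃ A ∈ 𝓑, g ∈ A := by
    intro g
    by_cases hf : Fpf h g
    · obtain ⟨u, hu, hgu⟩ := exists_tor_of_fpf h hf
      refine ⟨tz u, Finset.mem_union_right _ ?_, hgu⟩
      simp only [htor, Finset.mem_filter, Finset.mem_univ, true_and]
      exact ⟨(tz_facts h hu).1, ((tori h).1 u hu).1⟩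
    · obtain ⟨p, hp⟩ : ∃ p, act h g p = p := by simpa [Fpf] using hf
      exact ⟨stab p, Finset.mem_union_left _ (Finset.mem_image.mpr ⟨p, Finset.mem_univ _, rfl⟩), hstab g p hp⟩
  have hle := hmin 𝓑 ⟨h1, h2⟩
  have hD : Nat.card (gDhom h).range = q - 1 := by
    rw [← Nat.card_congr (MonoidHom.ofInjective (f := gDhom h) (gD_injective h)).toEquiv, Nat.card_eq_fintype_card,
      Fintype.card_units]
  haveI : IsCyclic (gDhom h).range :=
    isCyclic_of_surjective (gDhom h).rangeRestrict (gDhom h).rangeRestrict_surjective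
  set parts := insert (gDhom h).range (syl ∪ tor) with hparts
  have hsylcard : ∀ P : Sylow 2 (G F m), Nat.card (P : Subgroup (G F m)) = q ^ 2 := fun P => by
    obtain ⟨c, hc⟩ := exists_conj_sylow h P
    rw [hc, Subgroup.card_map_of_injective (MulEquiv.injective _), card_Usub]
  have hKs : ∀ U, U ∈ tor → Nat.card U ∈ Ks m := fun U hU => by
    simp only [htor, Finset.mem_filter, hq, h.hF, hr] at hU
    rcases hU.2.2 with e | e <;> rw [e] <;> simp [Ks]
  have hp : ∀ U ∈ parts, IsPart (Ks m) U ∧ U ≠ ⊥ := by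
    intro U hU
    have : IsPart (Ks m) U := by
      simp only [hparts, Finset.mem_insert, Finset.mem_union] at hU
      rcases hU with rfl | hU | hU
      · exact Or.inr ⟨inferInstance, by rw [hD, hq, h.hF]; simp [Ks]⟩
      · obtain ⟨P, -, rfl⟩ := Finset.mem_image.mp hU
        exact Or.inl ⟨P, rfl⟩
      · exact Or.inr ⟨(Finset.mem_filter.mp hU).2.1, hKs U hU⟩
    refine ⟨this, fun e => ?_⟩
    subst e
    rcases this with ⟨P, hP⟩ | ⟨-, hP⟩
    · have := hsylcard P
      rw [← hP, Subgroup.card_bot] at this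
      nlinarith
    · have := ((Ks_facts h).1 _ hP).1
      rw [Subgroup.card_bot] at this
      omega
  have hge := card_parts_le (trich h) (Ks_facts h).1 (Ks_facts h).2 𝓐 hcov hnil parts hp
  have hdis : Disjoint syl tor := by
    refine Finset.disjoint_left.mpr fun U hU hU' => ?_
    obtain ⟨P, -, rfl⟩ := Finset.mem_image.mp hU
    have hk := ((Ks_facts h).1 _ (hKs _ hU')).2
    rw [hsylcard] at hk
    exact hk ((even_iff_two_dvd.mp (q_even h)).trans (dvd_pow_self _ two_ne_zero))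
  have hnotin : (gDhom h).range ∉ syl ∪ tor := by
    intro hU
    rcases Finset.mem_union.mp hU with hU | hU
    · obtain ⟨P, -, e⟩ := Finset.mem_image.mp hU
      rw [← e, hsylcard] at hD
      have : q ≤ q ^ 2 := Nat.le_self_pow two_ne_zero q
      omega
    · have := (Finset.mem_filter.mp hU).2.2
      rw [hD] at this
      omega
  rw [hparts, Finset.card_insert_of_notMem hnotin, Finset.card_union_of_disjoint hdis] at hge
  have hsylN : syl.card = q ^ 2 + 1 := by
    rw [hsyl, Finset.card_image_of_injective _ (fun P Q e => Sylow.ext e), Finset.card_univ,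
      ← Nat.card_eq_fintype_card, Sylow.card_eq_index_normalizer (sylU h)]
    show (Subgroup.normalizer ((Usub h : Subgroup (G F m)) : Set (G F m))).index = _
    rw [normalizer_Usub, index_borel]
  have hBc : 𝓑.card ≤ q ^ 2 + 1 + tor.card := by
    refine (Finset.card_union_le _ _).trans (Nat.add_le_add_right (Finset.card_image_le.trans ?_) _)
    rw [Finset.card_univ, ← Nat.card_eq_fintype_card, card_ov]
  omega

end CfsgLib.Sz
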