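import Cfsg.Agent.Sz.Subgroups
import Cfsg.Agent.Sz.Cover
set_option autoImplicit false

/-!
All subgroups of the Suzuki group.
-/

namespace CfsgLib.Sz

section Generic

variable {H : Type*} [Group H] [Finite H] {K : Set ℕ}

theorem isPart_conj {U : Subgroup H} (hU : IsPart K U) (g : H) :
    IsPart K (U.map (MulAut.conj g).toMonoidHom) := by
  rcases hU with ⟨P, rfl⟩ | ⟨h1, h2⟩
  · exact Or.inl ⟨g • P, rfl⟩
  · haveI := h1
    refine Or.inr ⟨isCyclic_of_surjective ((MulAut.conj g).subgroupMap U) (MulEquiv.surjective _), ?_⟩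
    rw [Subgroup.card_map_of_injective (MulEquiv.injective _)]
    exact h2

theorem Trich.le_normalizer_part (h : Trich H K) (hodd : ∀ k ∈ K, 1 < k ∧ ¬ 2 ∣ k)
    (hcop : ∀ k ∈ K, ∀ l ∈ K, k ∣ l → k = l) (M : Subgroup H) (hM : Group.IsSolvable M) :
    ∃ U : Subgroup H, IsPart K U ∧ M ≤ Subgroup.normalizer (U : Set H) := by
  classical
  haveI : Fact (Nat.Prime 2) := ⟨Nat.prime_two⟩
  by_cases hbot : M = ⊥
  · exact ⟨(default : Sylow 2 H), Or.inl ⟨_, rfl⟩, by rw [hbot]; exact bot_le⟩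
  obtain ⟨n, hn⟩ := hM.solvable
  have hex : ∃ n, derivedSeries M n = ⊥ := ⟨n, hn⟩
  have hn0 : Nat.find hex ≠ 0 := fun e => by
    have h0 := Nat.find_spec hex
    rw [e, derivedSeries_zero] at h0
    haveI : Nontrivial M := (Subgroup.nontrivial_iff_ne_bot M).mpr hbot
    exact bot_ne_top h0.symm
  obtain ⟨j, hj⟩ := Nat.exists_eq_succ_of_ne_zero hn0
  set A := derivedSeries M j with hA
  have hA1 : A ≠ ⊥ := Nat.find_min hex (by omega)
  have hA2 : ⁅A, A⁆ = ⊥ := by
    have := Nat.find_spec hex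
    rwa [hj, derivedSeries_succ] at this
  obtain ⟨⟨a, haA⟩, ha⟩ := Subgroup.ne_bot_iff_exists_ne_one.mp hA1
  have ha1 : (a : H) ≠ 1 := fun e => ha (Subtype.ext (Subtype.ext e))
  obtain ⟨U, ⟨hU, haU⟩, -⟩ := h.partition hodd hcop (a : H) ha1
  refine ⟨U, hU, fun g hg => ?_⟩
  set b : M := ⟨g, hg⟩ * a * ⟨g, hg⟩⁻¹
  have hbA : b ∈ A := (derivedSeries_normal M j).conj_mem a haA ⟨g, hg⟩
  have hab : b * a = a * b :=
    (Subgroup.mem_centralizer_iff.mp (Subgroup.commutator_eq_bot_iff_le_centralizer.mp hA2 hbA) a haA).symm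
  have hb1 : (b : H) ≠ 1 := fun e => ha1 (by
    have e' : g * (a : H) * g⁻¹ = 1 := e
    calc (a : H) = g⁻¹ * (g * (a : H) * g⁻¹) * g := by group
      _ = 1 := by rw [e']; group)
  have hbU : (b : H) ∈ U := part_comm h hodd hcop ha1 hU haU (congrArg Subtype.val hab)
  have hbU' : (b : H) ∈ U.map (MulAut.conj g).toMonoidHom := ⟨(a : H), haU, rfl⟩
  obtain ⟨V, -, hV⟩ := h.partition hodd hcop (b : H) hb1
  have e : U.map (MulAut.conj g).toMonoidHom = U :=
    (hV _ ⟨isPart_conj hU g, hbU'⟩).trans (hV U ⟨hU, hbU⟩).symm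
  exact Subgroup.mem_normalizer_fintype fun x hx => e ▸ ⟨x, hx, rfl⟩

end Generic

variable {F : Type*} [Field F] [Fintype F] {m : ℕ} (h : Hyp F m)
include h

theorem borel_solvable : Group.IsSolvable (borel h) := by
  refine ⟨⟨3, ?_⟩⟩
  have h0 : (derivedSeries (borel h) 0).map (borel h).subtype ≤ borel h := Subgroup.map_subtype_le _
  have h1 : (derivedSeries (borel h) 1).map (borel h).subtype ≤ Usub h := by
    rw [derivedSeries_succ, Subgroup.map_commutator]
    exact (Subgroup.commutator_mono h0 h0).trans (commutator_borel_le h)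
  have h2 : (derivedSeries (borel h) 2).map (borel h).subtype ≤ Zsub h := by
    rw [derivedSeries_succ, Subgroup.map_commutator]
    exact (Subgroup.commutator_mono h1 h1).trans (commutator_Usub h).le
  have h3 : (derivedSeries (borel h) 3).map (borel h).subtype ≤ ⊥ := by
    rw [derivedSeries_succ, Subgroup.map_commutator]
    exact (Subgroup.commutator_mono h2 h2).trans (commutator_Zsub h).le
  exact (Subgroup.map_eq_bot_iff_of_injective _ (borel h).subtype_injective).mp (le_bot_iff.mp h3)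

theorem solvable_of_le_borel {M : Subgroup (G F m)} (hM : M ≤ borel h) : Group.IsSolvable M := by
  haveI := borel_solvable h
  exact Group.isSolvable_of_isSolvable_injective (Subgroup.inclusion_injective hM)

theorem invCov_conj {M : Subgroup (G F m)} {b : G F m} (hb : act h b (oinf m) = oinf m) (hM : InvCov h M) :
    InvCov h (M.map (MulAut.conj b).toMonoidHom) := by
  rintro _ ⟨u, hu, rfl⟩ h2
  have hu2 : u * u = 1 := (MulAut.conj b).injective (by rw [map_mul, map_one]; exact h2)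
  obtain ⟨g, hg, hfix⟩ := hM u hu hu2
  refine ⟨b * g * b⁻¹, ⟨g, hg, rfl⟩, ?_⟩
  have hbi : act h b⁻¹ (oinf m) = oinf m := by
    conv_lhs => rw [← hb, ← act_mul, inv_mul_cancel, act_one]
  show act h (b * u * b⁻¹) (act h (b * g * b⁻¹) (oinf m)) = act h (b * g * b⁻¹) (oinf m)
  rw [act_mul h (b * g), hbi, act_mul h b g]
  exact conj_move h hfix

theorem nc_conj {M : Subgroup (G F m)} {b : G F m} (hb : b ∈ borel h) (hM : ¬ IsCyclic ↥(M ⊓ Usub h)) :
    ¬ IsCyclic ↥(M.map (MulAut.conj b).toMonoidHom ⊓ Usub h) := by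
  intro hc
  apply hM
  haveI := hc
  let f : ↥(M ⊓ Usub h) →* ↥(M.map (MulAut.conj b).toMonoidHom ⊓ Usub h) :=
    (((MulAut.conj b).toMonoidHom).comp (M ⊓ Usub h).subtype).codRestrict _ fun x =>
      ⟨⟨x.1, x.2.1, rfl⟩, borel_normalizes h hb x.2.2⟩
  exact isCyclic_of_injective f fun x y e => Subtype.ext ((MulAut.conj b).injective (congrArg Subtype.val e))

theorem nonsolvable_conj (M : Subgroup (G F m)) (hM : ¬ Group.IsSolvable M) :
    ∃ (K : Subfield F) (_ : Fintype K) (k : ℕ) (hK : Hyp K k) (c : G F m),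
      M = ((mapG hK h K.subtype).range).map (MulAut.conj c).toMonoidHom := by
  classical
  haveI : Fact (Nat.Prime 2) := ⟨Nat.prime_two⟩
  -- a non-cyclic Sylow subgroup
  obtain ⟨S, hS⟩ : ∃ S : Sylow 2 M, ¬ IsCyclic S := by
    by_contra hcon
    push Not at hcon
    haveI : IsZGroup M := ⟨fun p hp P => by
      haveI : Fact p.Prime := ⟨hp⟩
      by_cases hp2 : p = 2
      · subst hp2; exact hcon P
      obtain ⟨Q, hQ⟩ := (P.isPGroup'.map M.subtype).exists_le_sylow
      haveI := (trich h).sylow_cyclic hp2 Q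
      exact isCyclic_of_injective ((Subgroup.inclusion hQ).comp
        ((P : Subgroup M).equivMapOfInjective M.subtype M.subtype_injective).toMonoidHom)
        ((Subgroup.inclusion_injective hQ).comp (MulEquiv.injective _))⟩
    exact hM inferInstance
  obtain ⟨P, hP⟩ := (S.isPGroup'.map M.subtype).exists_le_sylow
  obtain ⟨k, hk⟩ := exists_conj_sylow h P
  have hSU : ∀ x : M, x ∈ (S : Subgroup M) → k⁻¹ * (x : G F m) * k ∈ Usub h := by
    intro x hx
    have h1 : (x : G F m) ∈ (P : Subgroup (G F m)) := hP ⟨x, hx, rfl⟩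
    rw [hk] at h1
    obtain ⟨w, hw, hwx⟩ := h1
    rw [show k⁻¹ * (x : G F m) * k = w by
      rw [← hwx]; show k⁻¹ * (k * w * k⁻¹) * k = w; group]
    exact hw
  set M1 := M.map (MulAut.conj k⁻¹).toMonoidHom with hM1
  have hnc : ¬ IsCyclic ↥(M1 ⊓ Usub h) := by
    intro hc
    apply hS
    haveI := hc
    let f : (S : Subgroup M) →* ↥(M1 ⊓ Usub h) :=
      ((((MulAut.conj k⁻¹).toMonoidHom).comp M.subtype).comp (S : Subgroup M).subtype).codRestrict _ fun x =>
        ⟨⟨x.1.1, x.1.2, rfl⟩, by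
          show k⁻¹ * (x.1 : G F m) * k⁻¹⁻¹ ∈ Usub h
          rw [inv_inv]; exact hSU x.1 x.2⟩
    exact isCyclic_of_injective f fun x y e =>
      Subtype.ext (Subtype.ext ((MulAut.conj k⁻¹).injective (congrArg Subtype.val e)))
  have hcov : InvCov h M1 := by
    rintro _ ⟨u, hu, rfl⟩ h2
    have hu2 : u * u = 1 := (MulAut.conj k⁻¹).injective (by rw [map_mul, map_one]; exact h2)
    have hpg : IsPGroup 2 (Subgroup.zpowers (⟨u, hu⟩ : M)) := by
      refine IsPGroup.iff_orderOf.mpr fun x => ?_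
      have h3 : orderOf x ∣ 2 := by
        refine (orderOf_dvd_natCard x).trans ?_
        rw [Nat.card_zpowers]
        exact orderOf_dvd_of_pow_eq_one (Subtype.ext (by rw [sq]; exact hu2))
      obtain ⟨i, -, hi⟩ := (Nat.dvd_prime_pow Nat.prime_two).mp (show orderOf x ∣ 2 ^ 1 by rwa [pow_one])
      exact ⟨i, hi⟩
    obtain ⟨Q, hQ⟩ := hpg.exists_le_sylow
    obtain ⟨c, rfl⟩ := MulAction.exists_smul_eq M S Q
    obtain ⟨w, hw, hwu⟩ := hQ (Subgroup.mem_zpowers _)
    refine ⟨k⁻¹ * (c : G F m) * k, ⟨c, c.2, by show k⁻¹ * (c : G F m) * k⁻¹⁻¹ = _; rw [inv_inv]⟩, ?_⟩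
    have e : (MulAut.conj k⁻¹).toMonoidHom u =
        k⁻¹ * (c : G F m) * k * (k⁻¹ * (w : G F m) * k) * (k⁻¹ * (c : G F m) * k)⁻¹ := by
      have h4 : (c : G F m) * (w : G F m) * (c : G F m)⁻¹ = u := congrArg Subtype.val hwu
      show k⁻¹ * u * k⁻¹⁻¹ = _
      rw [← h4]; group
    rw [e]
    obtain ⟨a, b, hab⟩ := hSU w hw
    exact conj_move h (by rw [hab, gU_oinf])
  have hmove : ∃ g ∈ M1, act h g (oinf m) ≠ oinf m := by
    by_contra hcon
    push Not at hcon
    haveI := solvable_of_le_borel h (M := M1) (fun g hg => hcon g hg)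
    exact hM (@Group.isSolvable_of_isSolvable_injective _ _ _ _ ((MulAut.conj k⁻¹).subgroupMap M).toMonoidHom
      (MulEquiv.injective _) this)
  obtain ⟨u, hu, v, hv, hu2, hv2, huv, hum, huve⟩ := exists_swap_pair h hnc hcov hmove
  obtain ⟨a, b, hy⟩ : ∃ a b, act h u (oinf m) = opt m a b := by
    rcases Ov.cases' m (act h u (oinf m)) with e | e
    · exact absurd e hum
    · exact e
  -- move to the standard pair of points
  set d := (gU h a b)⁻¹ with hd
  have hdb : act h d (oinf m) = oinf m := by rw [hd, gU_inv, gU_oinf]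
  set M2 := M1.map (MulAut.conj d).toMonoidHom with hM2
  have hswap : ∀ w ∈ M1, w * w = 1 → act h w (oinf m) = opt m a b →
      ∃ s, d * w * d⁻¹ * gW h = gD h s ∧ gD h s * gW h ∈ M2 := by
    intro w hw hw2 he
    have h00 : act h d (opt m a b) = opt m 0 0 := by
      rw [hd, ← gU_smul_zero h a b, ← act_mul, inv_mul_cancel, act_one]
    have hdi : act h d⁻¹ (oinf m) = oinf m := by rw [hd, inv_inv, gU_oinf]
    have e1 : act h (d * w * d⁻¹) (oinf m) = opt m 0 0 := by rw [act_mul, act_mul, hdi, he, h00]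
    have e2 : act h (d * w * d⁻¹) (opt m 0 0) = oinf m := by
      rw [← e1, ← act_mul, show d * w * d⁻¹ * (d * w * d⁻¹) = d * (w * w) * d⁻¹ by group, hw2, mul_one,
        mul_inv_cancel, act_one]
    obtain ⟨s, hs⟩ := eq_gD_of_fix_two h (g := d * w * d⁻¹ * gW h)
      (by rw [act_mul, gW_oinf, e2]) (by rw [act_mul, gW_opt_zero, e1])
    refine ⟨s, hs, ?_⟩
    rw [← hs, mul_assoc, gW_sq, mul_one]
    exact ⟨w, hw, rfl⟩
  obtain ⟨s0, hs0, hs0M⟩ := hswap u hu hu2 hy
  obtain ⟨s0', hs0', hs0M'⟩ := hswap v hv hv2 (huve ▸ hy)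
  have hs_ne : s0 * s0'⁻¹ ≠ 1 := fun e => huv (by
    rw [mul_inv_eq_one] at e
    rw [← e, ← hs0] at hs0'
    exact (mul_left_cancel (mul_right_cancel (mul_right_cancel hs0'))).symm)
  have hs1M : gD h (s0 * s0'⁻¹) ∈ M2 := by
    have := mul_mem hs0M hs0M'
    rwa [show gD h s0 * gW h * (gD h s0' * gW h) = gD h s0 * (gW h * gD h s0' * gW h) by group, gW_gD, gD_mul] at this
  -- scale the Weyl element
  obtain ⟨r, hr⟩ : ∃ r : Fˣ, r * r = s0⁻¹ := by
    obtain ⟨r, hr⟩ := (Finite.injective_iff_surjective.mp h.sq_injective) ((s0⁻¹ : Fˣ) : F)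
    have hr0 : r ≠ 0 := fun e => (s0⁻¹).ne_zero (by rw [← hr]; simp [e])
    exact ⟨Units.mk0 r hr0, Units.ext (by rw [Units.val_mul, Units.val_mk0, ← hr]; ring)⟩
  set M3 := M2.map (MulAut.conj (gD h r)).toMonoidHom with hM3
  have hW : gW h ∈ M3 := by
    refine ⟨gD h s0 * gW h, hs0M, ?_⟩
    show gD h r * (gD h s0 * gW h) * (gD h r)⁻¹ = gW h
    rw [gD_inv, show gD h r * (gD h s0 * gW h) * gD h r⁻¹ = gD h r * gD h s0 * (gW h * gD h r⁻¹ * gW h) * (gW h)⁻¹
      by group, gW_gD, inv_inv, gD_mul, gD_mul, gW_inv,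
      show r * s0 * r = 1 by rw [mul_right_comm, hr, inv_mul_cancel], gD_one, one_mul]
  have hs1M3 : gD h (s0 * s0'⁻¹) ∈ M3 := by
    refine ⟨_, hs1M, ?_⟩
    show gD h r * gD h (s0 * s0'⁻¹) * (gD h r)⁻¹ = _
    rw [gD_inv, gD_mul, gD_mul, mul_comm r, mul_inv_cancel_right]
  have hrb : act h (gD h r) (oinf m) = oinf m := gD_oinf h r
  obtain ⟨K, iK, j, hK, e⟩ := standard_form h hs_ne hs1M3
    (nc_conj h hrb (nc_conj h hdb hnc)) (invCov_conj h hrb (invCov_conj h hdb hcov)) hW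
  refine ⟨K, iK, j, hK, (gD h r * d * k⁻¹)⁻¹, ?_⟩
  rw [← e, hM3, hM2, hM1, Subgroup.map_map, Subgroup.map_map, Subgroup.map_map]
  conv_lhs => rw [← Subgroup.map_id M]
  congr 1
  ext x
  simp [MulAut.conj_apply, mul_assoc]

theorem card_G_lt {K : Type*} [Field K] [Fintype K] {k : ℕ} (hK : Hyp K k)
    (hlt : Fintype.card K < Fintype.card F) : Nat.card (G K k) < Nat.card (G F m) := by
  rw [card_G hK, card_G h]
  have := hK.q_ge
  refine Nat.mul_lt_mul_of_lt_of_le (by nlinarith) (Nat.mul_le_mul (by nlinarith) (by omega)) ?_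
  exact Nat.mul_pos (pow_pos (by omega) _) (by omega)

theorem not_solvable : ¬ Group.IsSolvable (G F m) := by
  intro hs
  have : Nontrivial (G F m) := by
    haveI := simple h
    exact IsSimpleGroup.toNontrivial
  exact (Group.IsSolvable.commutator_lt_top_of_nontrivial (G F m)).ne (perfect h)

omit h in
theorem subfield_eq_of_card {K K' : Subfield F} [Fintype K] [Fintype K'] (e : Fintype.card K = Fintype.card K') :
    K = K' := by
  classical
  set q := Fintype.card K with hq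
  have hq1 : 1 < q := Fintype.one_lt_card
  set P : Polynomial F := Polynomial.X ^ q - Polynomial.X with hP
  have hP0 : P ≠ 0 := FiniteField.X_pow_card_sub_X_ne_zero F hq1
  have hsub : ∀ (L : Subfield F) [Fintype L], Fintype.card L = q →
      (Finset.univ : Finset L).image Subtype.val = P.roots.toFinset := by
    intro L _ hL
    refine Finset.eq_of_subset_of_card_le (fun x hx => ?_) ?_
    · obtain ⟨y, -, rfl⟩ := Finset.mem_image.mp hx
      rw [Multiset.mem_toFinset, Polynomial.mem_roots hP0, Polynomial.IsRoot.def, hP, Polynomial.eval_sub,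
        Polynomial.eval_pow, Polynomial.eval_X, ← hL, ← SubmonoidClass.coe_pow, FiniteField.pow_card, sub_self]
    · rw [Finset.card_image_of_injective _ Subtype.val_injective, Finset.card_univ, hL]
      refine (Multiset.toFinset_card_le _).trans ((Polynomial.card_roots' _).trans ?_)
      rw [hP, FiniteField.X_pow_card_sub_X_natDegree_eq F hq1]
  refine SetLike.ext fun x => ?_
  have h1 := Finset.ext_iff.mp (hsub K rfl) x
  have h2 := Finset.ext_iff.mp (hsub K' e.symm) x
  simp only [Finset.mem_image, Finset.mem_univ, true_and] at h1 h2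
  refine ⟨fun hx => ?_, fun hx => ?_⟩
  · obtain ⟨y, rfl⟩ := h2.mpr (h1.mp ⟨⟨x, hx⟩, rfl⟩); exact y.2
  · obtain ⟨y, rfl⟩ := h1.mpr (h2.mp ⟨⟨x, hx⟩, rfl⟩); exact y.2

omit h in
theorem hyp_unique {K : Type*} [Field K] {i i' : Fintype K} {k k' : ℕ} (hK : @Hyp K _ i k) (hK' : @Hyp K _ i' k') :
    k = k' := by
  have h1 := @Hyp.hF K _ i k hK
  have h2 := @Hyp.hF K _ i' k' hK'
  rw [Subsingleton.elim i' i, h1] at h2
  have := Nat.pow_right_injective le_rfl h2
  omega

theorem range_card {K : Type*} [Field K] [Fintype K] {k : ℕ} (hK : Hyp K k) (ι : K →+* F) (c : G F m) :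
    Nat.card (((mapG hK h ι).range).map (MulAut.conj c).toMonoidHom : Subgroup (G F m)) = Nat.card (G K k) := by
  rw [Subgroup.card_map_of_injective (MulAut.conj c).injective]
  exact (Nat.card_congr (MonoidHom.ofInjective (mapG_injective hK h ι)).toEquiv).symm

theorem proper_subfield (M : Subgroup (G F m)) (hM : ¬ Group.IsSolvable M) (htop : M ≠ ⊤) :
    ∃ k, 1 ≤ k ∧ k < m ∧ 2 * k + 1 ∣ 2 * m + 1 ∧ ∀ (L : Type) (_ : Field L) (_ : Fintype L),
      Fintype.card L = 2 ^ (2 * k + 1) → Nonempty (M ≃* G L k) := by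
  obtain ⟨K, iK, k, hK, c, hMe⟩ := nonsolvable_conj h M hM
  obtain ⟨i, hi⟩ := exponent_rel hK h K.subtype
  refine ⟨k, hK.hm, ?_, ⟨2 * i + 1, by rw [hi]; ring⟩, fun L _ _ hL => ?_⟩
  · by_contra hge
    rcases i with - | i
    · apply htop
      refine Subgroup.eq_top_of_card_eq _ ?_
      rw [hMe, range_card h hK, card_G hK, card_G h, hK.hF, h.hF, hi, mul_zero, add_zero]
    · rw [Nat.mul_succ] at hi
      omega
  · let e : K ≃+* L := FiniteField.ringEquivOfCardEq (by rw [hK.hF, hL])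
    have hLh : Hyp L k := ⟨hK.hm, hL⟩
    have hbij : Function.Bijective (mapG hK hLh e.toRingHom) :=
      (Nat.bijective_iff_injective_and_card _).mpr ⟨mapG_injective hK hLh _, by
        rw [card_G hK, card_G hLh, hK.hF, hL]⟩
    exact ⟨(MulEquiv.subgroupCongr hMe).trans (((MulAut.conj c).subgroupMap _).symm.trans
      ((MonoidHom.ofInjective (mapG_injective hK h K.subtype)).symm.trans (MulEquiv.ofBijective _ hbij)))⟩

theorem subfield_conj {K : Type*} [Field K] [Fintype K] {k : ℕ} (hK : Hyp K k)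
    (S₁ S₂ : Subgroup (G F m)) (e₁ : Nonempty (S₁ ≃* G K k)) (e₂ : Nonempty (S₂ ≃* G K k)) :
    ∃ g : G F m, S₂ = S₁.map (MulAut.conj g).toMonoidHom := by
  obtain ⟨f₁⟩ := e₁
  obtain ⟨f₂⟩ := e₂
  have key : ∀ S : Subgroup (G F m), (S ≃* G K k) → ∃ (L : Subfield F) (_ : Fintype L) (hL : Hyp L k) (c : G F m),
      S = ((mapG hL h L.subtype).range).map (MulAut.conj c).toMonoidHom := by
    intro S f
    obtain ⟨L, iL, j, hL, c, hS⟩ := nonsolvable_conj h S fun hs =>
      not_solvable hK (haveI := hs; Group.isSolvable_of_isSolvable_injective (f := f.symm.toMonoidHom) f.symm.injective)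
    have h1 : Nat.card (G L j) = Nat.card (G K k) := by
      rw [← range_card h hL L.subtype c, ← hS]; exact Nat.card_congr f.toEquiv
    have hjk : j = k := by
      rcases lt_trichotomy j k with hlt | hlt | hlt
      · exfalso
        exact (card_G_lt hK hL (by rw [hL.hF, hK.hF]; exact Nat.pow_lt_pow_right (by norm_num) (by omega))).ne h1
      · exact hlt
      · exfalso
        exact (card_G_lt hL hK (by rw [hL.hF, hK.hF]; exact Nat.pow_lt_pow_right (by norm_num) (by omega))).ne' h1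
    subst hjk
    exact ⟨L, iL, hL, c, hS⟩
  obtain ⟨L₁, i₁, hL₁, c₁, hS₁⟩ := key S₁ f₁
  obtain ⟨L₂, i₂, hL₂, c₂, hS₂⟩ := key S₂ f₂
  obtain rfl : L₁ = L₂ := subfield_eq_of_card (hL₁.hF.trans hL₂.hF.symm)
  obtain rfl : i₁ = i₂ := Subsingleton.elim _ _
  refine ⟨c₂ * c₁⁻¹, ?_⟩
  rw [hS₁, hS₂, Subgroup.map_map]
  congr 1
  ext x
  simp [MulAut.conj_apply, mul_assoc]

end CfsgLib.Sz
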