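import Cfsg.Agent.Sz.Classify
set_option autoImplicit false

/-!
Actions of the Suzuki group in which non-identity elements fix at most two points.
-/

namespace CfsgLib.Sz

variable {F : Type*} [Field F] [Fintype F] {m : ℕ} (h : Hyp F m)
include h

theorem th_unit_surj {a : F} (ha : a ≠ 0) : ∃ s : Fˣ, th m (s : F) = a := by
  obtain ⟨t, ht⟩ := h.th_surjective a
  exact ⟨Units.mk0 t (fun e => ha (by rw [← ht, e, th_zero])), ht⟩

theorem cent_invol {z : F} (hz : z ≠ 0) : Subgroup.centralizer ({gU h 0 z} : Set (G F m)) = Usub h := by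
  refine le_antisymm (cent_gU h fun e => hz e.2) ?_
  rintro x ⟨a, b, rfl⟩
  rw [Subgroup.mem_centralizer_singleton_iff, gU_mul, gU_mul]
  congr 1
  · ring
  · simp only [th_zero, zero_mul, mul_zero, add_zero]; ring

theorem cent_isPGroup {i : G F m} (i2 : i * i = 1) (i1 : i ≠ 1) :
    IsPGroup 2 (Subgroup.centralizer ({i} : Set (G F m))) := by
  rcases trich h i i1 with ⟨h1, -⟩ | ⟨-, h2⟩
  · exact h1
  · exfalso
    have h3 := Subgroup.orderOf_dvd_natCard _ (mem_centralizer_self i)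
    haveI : Fact (Nat.Prime 2) := ⟨Nat.prime_two⟩
    rw [orderOf_eq_prime (by rw [sq]; exact i2) i1] at h3
    exact ((Ks_facts h).1 _ h2).2 h3

/-- An involution normalising a cyclic part inverts it. -/
theorem invol_inverts {U : Subgroup (G F m)} (hc : IsCyclic U) (hcard : Nat.card U ∈ Ks m) {i : G F m}
    (i2 : i * i = 1) (i1 : i ≠ 1) (hi : i ∈ Subgroup.normalizer (U : Set (G F m))) {u : G F m} (hu : u ∈ U) :
    i * u * i = u⁻¹ := by
  haveI := hc
  letI := IsCyclic.commGroup (α := U)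
  have hii : i⁻¹ = i := inv_eq_of_mul_eq_one_right i2
  have hiu : i * u * i ∈ U := by
    have := (Subgroup.mem_normalizer_iff.mp hi u).mp hu
    rwa [hii] at this
  set w := u * (i * u * i) with hw
  have hcm : (i * u * i) * u = u * (i * u * i) := congrArg Subtype.val (mul_comm (⟨_, hiu⟩ : U) ⟨u, hu⟩)
  have hwC : w ∈ Subgroup.centralizer ({i} : Set (G F m)) := by
    rw [Subgroup.mem_centralizer_singleton_iff]
    calc w * i = u * (i * u) * (i * i) := by rw [hw]; group
      _ = u * (i * u) := by rw [i2, mul_one]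
      _ = i * ((i * u * i) * u) := by
        rw [show i * ((i * u * i) * u) = (i * i) * u * (i * u) by group, i2, one_mul]
      _ = i * w := by rw [hcm]
  obtain ⟨j, hj⟩ := IsPGroup.iff_orderOf.mp (cent_isPGroup h i2 i1) ⟨w, hwC⟩
  rw [← Subgroup.orderOf_coe] at hj
  simp only at hj
  have hd := Subgroup.orderOf_dvd_natCard U (mul_mem hu hiu)
  rw [← hw, hj] at hd
  have hw1 : w = 1 := by
    rcases j with - | j
    · exact orderOf_eq_one_iff.mp (by rw [hj, pow_zero])
    · exact absurd ((dvd_pow_self 2 (Nat.succ_ne_zero j)).trans hd) ((Ks_facts h).1 _ hcard).2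
  exact eq_inv_of_mul_eq_one_right hw1

/-- Commuting involutions normalising a cyclic part are equal. -/
theorem invol_comm_eq {U : Subgroup (G F m)} (hc : IsCyclic U) (hcard : Nat.card U ∈ Ks m) {i j : G F m}
    (i2 : i * i = 1) (i1 : i ≠ 1) (hi : i ∈ Subgroup.normalizer (U : Set (G F m)))
    (j2 : j * j = 1) (j1 : j ≠ 1) (hj : j ∈ Subgroup.normalizer (U : Set (G F m))) (hij : i * j = j * i) : i = j := by
  by_contra hne
  have hk1 : i * j ≠ 1 := fun e => hne (by rw [eq_inv_of_mul_eq_one_left e, inv_eq_of_mul_eq_one_right j2])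
  have hk2 : i * j * (i * j) = 1 := by
    calc i * j * (i * j) = i * (j * i) * j := by group
      _ = i * (i * j) * j := by rw [hij]
      _ = i * i * (j * j) := by group
      _ = 1 := by rw [i2, j2, one_mul]
  obtain ⟨u, hu, hu1⟩ : ∃ u ∈ U, u ≠ 1 := by
    by_contra hcon
    push Not at hcon
    have : U = ⊥ := (Subgroup.eq_bot_iff_forall _).mpr hcon
    rw [this, Subgroup.card_bot] at hcard
    exact absurd ((Ks_facts h).1 _ hcard).1 (by norm_num)
  have h1 : i * j * u * (i * j) = u := by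
    calc i * j * u * (i * j) = i * (j * u * j) * (j * (i * j)) * 1 := by
          rw [show i * (j * u * j) * (j * (i * j)) * 1 = i * j * u * (j * j) * (i * j) by group, j2, mul_one]
      _ = i * u⁻¹ * (j * (i * j)) := by rw [invol_inverts h hc hcard j2 j1 hj hu, mul_one]
      _ = i * u⁻¹ * i := by
        rw [show j * (i * j) = j * (j * i) by rw [hij], ← mul_assoc j, j2, one_mul]
      _ = u⁻¹⁻¹ := invol_inverts h hc hcard i2 i1 hi (inv_mem hu)
      _ = u := inv_inv u
  have h2 := invol_inverts h hc hcard hk2 hk1 (mul_mem hi hj) hu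
  have h3 : u * u = 1 := by
    have e : u = u⁻¹ := h1.symm.trans h2
    nth_rewrite 2 [e]
    exact mul_inv_cancel u
  have h4 := Subgroup.orderOf_dvd_natCard U hu
  haveI : Fact (Nat.Prime 2) := ⟨Nat.prime_two⟩
  rw [orderOf_eq_prime (by rw [sq]; exact h3) hu1] at h4
  exact ((Ks_facts h).1 _ hcard).2 h4

section Action

variable {Ω : Type*} [Fintype Ω] [MulAction (G F m) Ω]
  (hfix : ∀ g : G F m, g ≠ 1 → Nat.card (MulAction.fixedBy Ω g) ≤ 2)
include hfix

omit h in
theorem orbit_bound {α : Ω} {g : G F m} (hg1 : g ≠ 1) (S : Subgroup (G F m))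
    (hS : ∀ x ∈ S, x⁻¹ * g * x ∈ MulAction.stabilizer (G F m) α) :
    (MulAction.stabilizer (G F m) α).relIndex S ≤ 2 := by
  have e : (MulAction.stabilizer (G F m) α).subgroupOf S = MulAction.stabilizer S α := by
    ext x; exact Iff.rfl
  rw [Subgroup.relIndex, e, MulAction.index_stabilizer]
  refine le_trans ?_ (hfix g hg1)
  rw [Nat.card_coe_set_eq]
  refine Set.ncard_le_ncard ?_ (Set.toFinite _)
  rintro _ ⟨x, rfl⟩
  show g • ((x : G F m) • α) = (x : G F m) • α
  have h1 : ((x : G F m)⁻¹ * g * (x : G F m)) • α = α := hS x x.2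
  calc g • ((x : G F m) • α) = (x : G F m) • (((x : G F m)⁻¹ * g * (x : G F m)) • α) := by
        rw [← mul_smul, ← mul_smul]; congr 1; group
    _ = _ := by rw [h1]

omit h in
theorem cent_bound {α : Ω} {g : G F m} (hg1 : g ≠ 1) (hg : g • α = α) :
    (MulAction.stabilizer (G F m) α).relIndex (Subgroup.centralizer ({g} : Set (G F m))) ≤ 2 := by
  refine orbit_bound hfix hg1 _ fun x hx => ?_
  rw [Subgroup.mem_centralizer_singleton_iff] at hx
  rw [mul_assoc, ← hx, inv_mul_cancel_left]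
  exact hg

omit h in
theorem odd_le {α : Ω} {S : Subgroup (G F m)} (hodd : ¬ 2 ∣ Nat.card S)
    (hb : (MulAction.stabilizer (G F m) α).relIndex S ≤ 2) : S ≤ MulAction.stabilizer (G F m) α := by
  refine Subgroup.relIndex_eq_one.mp ?_
  have h1 : (MulAction.stabilizer (G F m) α).relIndex S ∣ Nat.card S := Subgroup.index_dvd_card _
  have h2 : (MulAction.stabilizer (G F m) α).relIndex S ≠ 0 := Subgroup.index_ne_zero_of_finite
  by_contra hne
  rw [show (MulAction.stabilizer (G F m) α).relIndex S = 2 by omega] at h1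
  exact hodd h1

theorem invol_of_tor {α : Ω} {g : G F m} (hg : g • α = α) (hf : Fpf h g) :
    ∃ i : G F m, i * i = 1 ∧ i ≠ 1 ∧ i • α = α := by
  obtain ⟨u, hu, hgu⟩ := exists_tor_of_fpf h hf
  have hg1 : g ≠ 1 := fun e => hf (oinf m) (by rw [e, act_one])
  have hC : Subgroup.centralizer ({g} : Set (G F m)) = tz u := tz_eq h hu hgu hg1
  have hodd : ¬ 2 ∣ Nat.card (tz u) := fun hd => N_odd h (hd.trans (tz_facts h hu).2.1)
  have hle : tz u ≤ MulAction.stabilizer (G F m) α := odd_le hfix hodd (hC ▸ cent_bound hfix hg1 hg)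
  have hN := orbit_bound hfix hg1 (nz u) (α := α) fun x hx => hle (by
    have := (Subgroup.mem_normalizer_iff.mp (inv_mem hx) g).mp hgu
    rwa [inv_inv] at this)
  have hc4 := ((tori h).1 u hu).2
  set H := MulAction.stabilizer (G F m) α
  have hmul : H.relIndex (nz u) * Nat.card (H.subgroupOf (nz u)) = 4 * Nat.card (tz u) := by
    rw [← hc4, mul_comm]; exact Subgroup.card_mul_index _
  have h2 : 2 ∣ Nat.card (H.subgroupOf (nz u)) := by
    have h0 : H.relIndex (nz u) ≠ 0 := Subgroup.index_ne_zero_of_finite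
    rcases (show H.relIndex (nz u) = 1 ∨ H.relIndex (nz u) = 2 by omega) with e | e <;> rw [e] at hmul
    · exact ⟨2 * Nat.card (tz u), by linarith⟩
    · exact ⟨Nat.card (tz u), by linarith⟩
  haveI : Fact (Nat.Prime 2) := ⟨Nat.prime_two⟩
  obtain ⟨⟨⟨i, hiN⟩, hiH⟩, hio⟩ := exists_prime_orderOf_dvd_card' (G := H.subgroupOf (nz u)) 2 h2
  rw [← Subgroup.orderOf_coe, ← Subgroup.orderOf_coe] at hio
  simp only at hio
  exact ⟨i, by rw [← sq, ← hio, pow_orderOf_eq_one], fun e => by rw [e, orderOf_one] at hio; omega, hiH⟩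

theorem stab_borel_of_invol {α : Ω} (htop : MulAction.stabilizer (G F m) α ≠ ⊤) {z : F} (hz : z ≠ 0)
    (hzα : gU h 0 z • α = α) : MulAction.stabilizer (G F m) α = borel h := by
  classical
  haveI : Fact (Nat.Prime 2) := ⟨Nat.prime_two⟩
  set H := MulAction.stabilizer (G F m) α with hH
  have hz1 : gU h 0 z ≠ 1 := fun e => hz ((gU_eq_one_iff h).mp e).2
  have hidx : H.relIndex (Usub h) ≤ 2 := by
    rw [← cent_invol h hz]
    exact cent_bound hfix hz1 hzα
  have hUH : Nat.card (Usub h) ≤ 2 * Nat.card ↥(H ⊓ Usub h) := by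
    rw [← Subgroup.card_mul_index (H.subgroupOf (Usub h)), mul_comm]
    refine Nat.mul_le_mul hidx (le_of_eq ?_)
    refine Nat.card_congr ⟨fun x => ⟨x.1.1, x.2, x.1.2⟩, fun x => ⟨⟨x.1, x.2.2⟩, x.2.1⟩, fun _ => rfl, fun _ => rfl⟩
  have hquad : ∀ x ∈ Usub h, x * x ∈ H := by
    intro x hx
    have h0 : (H.subgroupOf (Usub h)).index ≠ 0 := Subgroup.index_ne_zero_of_finite
    rcases (show H.relIndex (Usub h) = 1 ∨ H.relIndex (Usub h) = 2 by
      have : (H.subgroupOf (Usub h)).index = H.relIndex (Usub h) := rfl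
      omega) with e | e
    · exact mul_mem (Subgroup.relIndex_eq_one.mp e hx) (Subgroup.relIndex_eq_one.mp e hx)
    · exact Subgroup.mul_self_mem_of_index_two (H := H.subgroupOf (Usub h)) e ⟨x, hx⟩
  have hZ : ∀ w, gU h 0 w ∈ H := by
    intro w
    obtain ⟨r, hr⟩ := norm_surj h w
    have := hquad (gU h r 0) ⟨r, 0, rfl⟩
    rwa [gU_sq, mul_comm, show r * th m r = w from hr] at this
  have hcard2 : Nat.card ↥(H ⊓ Usub h) ∣ Nat.card H := Subgroup.card_dvd_of_le inf_le_left
  have hUc : Nat.card (Usub h) = 2 ^ (2 * (2 * m + 1)) := by rw [card_Usub, h.hF, ← pow_mul, mul_comm]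
  obtain ⟨j, hj⟩ := IsPGroup.iff_card.mp ((isPGroup_Usub h).to_le (inf_le_right : H ⊓ Usub h ≤ Usub h))
  have hjb : 2 * (2 * m + 1) ≤ j + 1 := by
    rw [hUc, hj, ← pow_succ'] at hUH
    exact (Nat.pow_le_pow_iff_right (by norm_num : 1 < 2)).mp hUH
  have hsolv : Group.IsSolvable H := by
    by_contra hns
    obtain ⟨K, iK, k, hK, c, hMe⟩ := nonsolvable_conj h H hns
    rw [hj, hMe, range_card h hK K.subtype c, card_G hK, mul_comm (Fintype.card K ^ 2) (Fintype.card K - 1),
      ← mul_assoc] at hcard2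
    have hco : Nat.Coprime (2 ^ j) ((Fintype.card K ^ 2 + 1) * (Fintype.card K - 1)) :=
      Nat.Coprime.pow_left _ ((Nat.Prime.coprime_iff_not_dvd Nat.prime_two).mpr (odd_part hK))
    have h2 := hco.dvd_of_dvd_mul_left hcard2
    rw [hK.hF, ← pow_mul] at h2
    have h3 := Nat.pow_dvd_pow_iff_le_right (by norm_num : 1 < 2) |>.mp h2
    obtain ⟨i, hi⟩ := exponent_rel hK h K.subtype
    rcases i with - | i
    · apply htop
      refine Subgroup.eq_top_of_card_eq _ ?_
      rw [hMe, range_card h hK, card_G hK, card_G h, hK.hF, h.hF, hi, mul_zero, add_zero]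
    · rw [Nat.mul_succ] at hi
      omega
  obtain ⟨U, hU, hle⟩ := (trich h).le_normalizer_part (Ks_facts h).1 (Ks_facts h).2 H hsolv
  obtain ⟨c, hc0, hc1⟩ := exists_ne_01 h
  have hinv2 : ∀ w : F, gU h 0 w * gU h 0 w = 1 := fun w => by rw [gU_sq, th_zero, zero_mul, gU_zero]
  have hne1 : ∀ w : F, w ≠ 0 → gU h 0 w ≠ 1 := fun w hw e => hw ((gU_eq_one_iff h).mp e).2
  have hHb : H ≤ borel h := by
    rcases hU with ⟨P, rfl⟩ | ⟨hcy, hcard⟩
    · obtain ⟨k, hk⟩ := exists_conj_sylow h P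
      have hPb : Subgroup.normalizer ((P : Subgroup (G F m)) : Set (G F m)) =
          (borel h).map (MulAut.conj k).toMonoidHom := by
        rw [hk, ← Subgroup.map_equiv_normalizer_eq, normalizer_Usub]
      rw [hPb] at hle
      obtain ⟨w, hw, hwz⟩ := hle hzα
      have hp : act h (gU h 0 z) (act h k (oinf m)) = act h k (oinf m) := by
        rw [← hwz]; exact conj_move h hw
      have hk' : act h k (oinf m) = oinf m := gU_fix h (fun e => hz e.2) hp
      refine hle.trans ?_
      rintro _ ⟨x, hx, rfl⟩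
      exact mul_mem (mul_mem (show k ∈ borel h from hk') hx) (inv_mem (show k ∈ borel h from hk'))
    · exfalso
      have := invol_comm_eq h hcy hcard (hinv2 1) (hne1 1 one_ne_zero) (hle (hZ 1)) (hinv2 c) (hne1 c hc0)
        (hle (hZ c)) (by
          rw [gU_mul, gU_mul]
          congr 1
          simp only [th_zero, zero_mul, add_zero]; ring)
      exact hc1 (gU_injective h this).2.symm
  -- the index in the point stabiliser
  have hB := orbit_bound hfix hz1 (borel h) (α := α) fun x hx => by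
    obtain ⟨a, b, s, he⟩ := (mem_borel_iff h).mp (inv_mem hx : x⁻¹ ∈ borel h)
    have e : x⁻¹ * gU h 0 z * x = gU h a b * (gD h s * gU h 0 z * (gD h s)⁻¹) * (gU h a b)⁻¹ := by
      calc x⁻¹ * gU h 0 z * x = x⁻¹ * gU h 0 z * x⁻¹⁻¹ := by rw [inv_inv]
        _ = _ := by rw [he]; group
    rw [e, gD_gU, mul_zero]
    have hcm : gU h a b * gU h 0 (th m (s : F) * (s : F) ^ 2 * z) =
        gU h 0 (th m (s : F) * (s : F) ^ 2 * z) * gU h a b := by
      rw [gU_mul, gU_mul]
      congr 1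
      · ring
      · simp only [th_zero, zero_mul, mul_zero, add_zero]; ring
    rw [hcm, mul_inv_cancel_right]
    exact hZ _
  refine le_antisymm hHb ?_
  refine Subgroup.relIndex_eq_one.mp ?_
  have h0 : (H.subgroupOf (borel h)).index ≠ 0 := Subgroup.index_ne_zero_of_finite
  by_contra hne
  have hi2 : (H.subgroupOf (borel h)).index = 2 := by
    change (H.subgroupOf (borel h)).index ≤ 2 at hB
    change ¬ (H.subgroupOf (borel h)).index = 1 at hne
    omega
  haveI : (H.subgroupOf (borel h)).Normal := Subgroup.normal_of_index_eq_two hi2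
  have hsq : ∀ x ∈ borel h, x * x ∈ H := fun x hx =>
    Subgroup.mul_self_mem_of_index_two (H := H.subgroupOf (borel h)) hi2 ⟨x, hx⟩
  have hD : ∀ s, gD h s ∈ H := by
    intro s
    obtain ⟨r, hr⟩ := (Finite.injective_iff_surjective.mp h.sq_injective) (s : F)
    have hr0 : r ≠ 0 := fun e => s.ne_zero (by rw [← hr]; simp [e])
    have := hsq (gD h (Units.mk0 r hr0)) (gD_oinf h _)
    rwa [gD_mul, show Units.mk0 r hr0 * Units.mk0 r hr0 = s from Units.ext (by
      rw [Units.val_mul, Units.val_mk0, ← hr]; ring)] at this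
  apply hne
  refine Subgroup.relIndex_eq_one.mpr ?_
  intro g hg
  obtain ⟨a, b, s, rfl⟩ := (mem_borel_iff h).mp hg
  refine mul_mem ?_ (hD s)
  obtain ⟨s1, hs1⟩ : ∃ s1 : Fˣ, s1 ≠ 1 := ⟨Units.mk0 c hc0, fun e => hc1 (congrArg Units.val e)⟩
  have hc : th m (s1 : F) - 1 ≠ 0 := sub_ne_zero.mpr (th_unit_ne_one h hs1)
  set a' := a / (th m (s1 : F) - 1) with ha'
  have hu : gU h a' 0 ∈ borel h := gU_oinf h a' 0
  have h1 : gD h s1 * (gU h a' 0 * (gD h s1)⁻¹ * (gU h a' 0)⁻¹) ∈ H :=
    mul_mem (hD s1) ((inferInstance : (H.subgroupOf (borel h)).Normal).conj_mem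
      (⟨(gD h s1)⁻¹, inv_mem (show gD h s1 ∈ borel h from gD_oinf h s1)⟩ : borel h) (inv_mem (hD s1)) ⟨_, hu⟩)
  rw [show gD h s1 * (gU h a' 0 * (gD h s1)⁻¹ * (gU h a' 0)⁻¹) =
    gD h s1 * gU h a' 0 * (gD h s1)⁻¹ * (gU h a' 0)⁻¹ by group, gD_gU, gU_inv, gU_mul] at h1
  rw [show th m (s1 : F) * a' + a' = a by
    rw [ha']; field_simp; linear_combination a * h.two] at h1
  set b0 := th m (s1 : F) * (s1 : F) ^ 2 * 0 + (0 + th m a' * a') + th m (th m (s1 : F) * a') * a'
  have h2 := mul_mem h1 (hZ (b - b0))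
  rwa [gU_mul, add_zero, mul_zero, add_zero, add_sub_cancel] at h2

theorem stab_dichotomy {α : Ω} (htop : MulAction.stabilizer (G F m) α ≠ ⊤)
    (hbot : MulAction.stabilizer (G F m) α ≠ ⊥) :
    (∃ k : G F m, MulAction.stabilizer (G F m) α = (borel h).map (MulAut.conj k).toMonoidHom) ∨
      Nat.card (MulAction.stabilizer (G F m) α) = Fintype.card F - 1 := by
  classical
  by_cases hinv : ∃ i : G F m, i * i = 1 ∧ i ≠ 1 ∧ i • α = α
  · left
    obtain ⟨i, i2, i1, hiα⟩ := hinv
    obtain ⟨p, hp⟩ := involution_fix h i2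
    obtain ⟨k, hk⟩ := exists_move h p
    obtain ⟨z, hz⟩ := borel_invol h (conj_fix h hk hp) (by
      calc _ = k⁻¹ * (i * i) * k := by group
        _ = 1 := by rw [i2]; group)
    have hz0 : z ≠ 0 := fun e => i1 (by
      calc i = k * (k⁻¹ * i * k) * k⁻¹ := by group
        _ = 1 := by rw [hz, e, gU_zero]; group)
    have hstab := MulAction.stabilizer_smul_eq_stabilizer_map_conj k⁻¹ α
    have htop' : MulAction.stabilizer (G F m) (k⁻¹ • α) ≠ ⊤ := fun e => htop (by
      rw [hstab] at e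
      exact Subgroup.map_injective (f := (MulAut.conj k⁻¹).toMonoidHom) (MulEquiv.injective _)
        (e.trans (Subgroup.map_top_of_surjective _ (MulEquiv.surjective _)).symm))
    have hzα : gU h 0 z • (k⁻¹ • α) = k⁻¹ • α := by
      rw [← hz, ← mul_smul, mul_assoc, mul_inv_cancel, mul_one, mul_smul, hiα]
    have hb := stab_borel_of_invol h hfix htop' hz0 hzα
    rw [hstab] at hb
    refine ⟨k, ?_⟩
    rw [← hb, Subgroup.map_map]
    conv_lhs => rw [← Subgroup.map_id (MulAction.stabilizer (G F m) α)]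
    congr 1
    ext x
    simp [MulAut.conj_apply, mul_assoc]
  right
  set H := MulAction.stabilizer (G F m) α with hH
  have hnf : ∀ g ∈ H, ¬ Fpf h g := fun g hg hf => hinv (invol_of_tor h hfix hg hf)
  have hq := h.q_ge
  have hdvd : Nat.card H ∣ Fintype.card F - 1 := by
    have h1 : Nat.card H ∣ (Fintype.card F ^ 2 + 1) * (Fintype.card F ^ 2 * (Fintype.card F - 1)) :=
      card_G h ▸ Subgroup.card_subgroup_dvd_card H
    have hc : Nat.Coprime (Nat.card H) ((Fintype.card F ^ 2 + 1) * Fintype.card F ^ 2) := by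
      refine Nat.coprime_of_dvd fun r hr r1 r2 => ?_
      haveI : Fact r.Prime := ⟨hr⟩
      obtain ⟨⟨x, hx⟩, hxo⟩ := exists_prime_orderOf_dvd_card' (G := H) r r1
      rw [← Subgroup.orderOf_coe] at hxo
      simp only at hxo
      rcases hr.dvd_mul.mp r2 with r3 | r3
      · obtain ⟨p, hp⟩ : ∃ p, act h x p = p := by simpa [Fpf] using hnf x hx
        have h4 := stab_order h hp
        rw [hxo] at h4
        exact hr.ne_one (Nat.eq_one_of_dvd_coprimes (N_coprime h) r3 h4)
      · have h5 : r ∣ 2 := hr.dvd_of_dvd_pow (n := (2 * m + 1) * 2) (by rw [pow_mul, ← h.hF]; exact r3)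
        rw [(Nat.prime_dvd_prime_iff_eq hr Nat.prime_two).mp h5] at hxo
        refine hinv ⟨x, ?_, fun e => by rw [e, orderOf_one] at hxo; omega, hx⟩
        rw [← sq, ← hxo, pow_orderOf_eq_one]
    exact hc.dvd_of_dvd_mul_left (by rwa [mul_assoc])
  obtain ⟨⟨g, hg⟩, hg1⟩ := Subgroup.ne_bot_iff_exists_ne_one.mp hbot
  have hg1' : g ≠ 1 := fun e => hg1 (Subtype.ext e)
  rcases trich h g hg1' with ⟨h1, -⟩ | ⟨-, h2⟩
  · exfalso
    obtain ⟨j, hj⟩ := IsPGroup.iff_orderOf.mp h1 ⟨g, mem_centralizer_self g⟩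
    rw [← Subgroup.orderOf_coe] at hj
    simp only at hj
    rcases j with - | j
    · exact hg1' (orderOf_eq_one_iff.mp (by rw [hj, pow_zero]))
    · have h3 := (Subgroup.orderOf_dvd_natCard H hg).trans hdvd
      rw [hj] at h3
      exact (odd_part h) (Dvd.dvd.mul_left ((dvd_pow_self 2 (Nat.succ_ne_zero j)).trans h3) _)
  · have hle : Subgroup.centralizer ({g} : Set (G F m)) ≤ H :=
      odd_le hfix (((Ks_facts h).1 _ h2).2) (cent_bound hfix hg1' hg)
    have h3 : Nat.card (Subgroup.centralizer ({g} : Set (G F m))) ∣ Fintype.card F - 1 :=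
      (Subgroup.card_dvd_of_le hle).trans hdvd
    have hkq : Fintype.card F - 1 ∈ Ks m := by rw [h.hF]; simp [Ks]
    have h4 := (Ks_facts h).2 _ h2 _ hkq h3
    exact Nat.dvd_antisymm hdvd (h4 ▸ Subgroup.card_dvd_of_le hle)

end Action

end CfsgLib.Sz
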