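import Cfsg.Agent.Sz.Partition
set_option autoImplicit false

/-!
The Suzuki group is generated by two elements.
-/

namespace CfsgLib.Sz

variable {F : Type*} [Field F] [Fintype F] {m : ℕ} (h : Hyp F m)
include h

theorem th_surj : Function.Surjective (th m : F → F) := Finite.injective_iff_surjective.1 h.th_injective

theorem two_gen : ∃ a b : G F m, Subgroup.closure ({a, b} : Set (G F m)) = ⊤ := by
  obtain ⟨s0, hs0⟩ := IsCyclic.exists_generator (α := Fˣ)
  refine ⟨gD h s0, gU h 1 0 * gW h, ?_⟩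
  set H := Subgroup.closure ({gD h s0, gU h 1 0 * gW h} : Set (G F m)) with hH
  have hD : ∀ s, gD h s ∈ H := fun s => by
    obtain ⟨i, rfl⟩ := Subgroup.mem_zpowers_iff.mp (hs0 s)
    rw [show gD h (s0 ^ i) = gDhom h (s0 ^ i) from rfl, map_zpow]
    exact zpow_mem (Subgroup.subset_closure (Set.mem_insert _ _)) i
  have hb : gU h 1 0 * gW h ∈ H := Subgroup.subset_closure (Set.mem_insert_of_mem _ rfl)
  obtain ⟨c, hc0, hc1⟩ := exists_ne_01 h
  obtain ⟨t, ht⟩ := th_surj h c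
  have ht0 : t ≠ 0 := fun e => hc0 (by rw [← ht, e]; simp [th])
  set s : Fˣ := Units.mk0 t ht0
  -- an element of `H ∩ U` outside the centre
  have h1 : gU h 1 0 * gD h s * (gU h 1 0)⁻¹ ∈ H := by
    have := mul_mem (mul_mem hb (hD s⁻¹)) (inv_mem hb)
    rwa [show gU h 1 0 * gW h * gD h s⁻¹ * (gU h 1 0 * gW h)⁻¹ = gU h 1 0 * (gW h * gD h s⁻¹ * gW h) * (gU h 1 0)⁻¹
      by rw [mul_inv_rev, gW_inv]; group, gW_gD, inv_inv] at this
  obtain ⟨a, b, ha, hab⟩ : ∃ a b, a ≠ 0 ∧ gU h a b ∈ H := by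
    have h2 := mul_mem h1 (hD s⁻¹)
    rw [show gU h 1 0 * gD h s * (gU h 1 0)⁻¹ * gD h s⁻¹ = gU h 1 0 * (gD h s * (gU h 1 0)⁻¹ * (gD h s)⁻¹)
      by rw [gD_inv]; group, gU_inv, gD_gU, gU_mul] at h2
    refine ⟨_, _, ?_, h2⟩
    rw [show (s : F) = t from rfl, ht, mul_one]
    intro e
    haveI := h.charP
    exact hc1 ((CharTwo.add_eq_zero.mp e).symm)
  -- all first coordinates occur
  have hfirst : ∀ x, ∃ y, gU h x y ∈ H := by
    intro x
    by_cases hx : x = 0
    · exact ⟨0, by rw [hx, gU_zero]; exact one_mem H⟩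
    obtain ⟨r, hr⟩ := th_surj h (x / a)
    have hr0 : r ≠ 0 := fun e => div_ne_zero hx ha (by rw [← hr, e]; simp [th])
    refine ⟨x / a * r ^ 2 * b, ?_⟩
    have := mul_mem (mul_mem (hD (Units.mk0 r hr0)) hab) (inv_mem (hD (Units.mk0 r hr0)))
    rw [gD_gU, Units.val_mk0, hr, div_mul_cancel₀ x ha] at this
    exact this
  -- the centre
  have hZ : ∀ z, gU h 0 z ∈ H := by
    intro z
    obtain ⟨r, hr⟩ := norm_surj h z
    obtain ⟨y, hy⟩ := hfirst r
    have := mul_mem hy hy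
    rwa [gU_sq, mul_comm, show r * th m r = z from hr] at this
  have hU : ∀ x y, gU h x y ∈ H := by
    intro x y
    obtain ⟨y', hy'⟩ := hfirst x
    have := mul_mem hy' (hZ (y - y'))
    rwa [gU_mul, add_zero, mul_zero, add_zero, add_sub_cancel] at this
  have hW : gW h ∈ H := by
    have := mul_mem (inv_mem (hU 1 0)) hb
    rwa [inv_mul_cancel_left] at this
  rw [eq_top_iff, ← generated h, Subgroup.closure_le]
  rintro g ((⟨p, rfl⟩ | ⟨r, rfl⟩) | rfl)
  · exact hU _ _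
  · exact hD r
  · exact hW

end CfsgLib.Sz
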