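import Cfsg.Agent.Sz.Simplicity
import Cfsg.Agent.Sz.TwoGen
set_option autoImplicit false

/-!
The smallest degree of a faithful complex representation of the Suzuki group.
-/

namespace CfsgLib.Sz

open Finset

variable {F : Type*} [Field F] [Fintype F] {m : ℕ}

/-- The commutator form on the unipotent group. -/
def Lf (m : ℕ) (a x : F) : F := th m a * x + th m x * a

variable (h : Hyp F m)
include h

theorem Lf_add_right (a x y : F) : Lf m a (x + y) = Lf m a x + Lf m a y := by
  simp only [Lf, h.th_add]; ring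

theorem Lf_add_left (a b x : F) : Lf m (a + b) x = Lf m a x + Lf m b x := by
  simp only [Lf, h.th_add]; ring

theorem char_sq (χ : AddChar F ℂ) (z : F) : χ z * χ z = 1 := by
  rw [← AddChar.map_add_eq_mul, show z + z = 0 by linear_combination z * h.two, AddChar.map_zero_eq_one]

theorem Lf_kernel {a d : F} (ha : a ≠ 0) (hd : Lf m a d = 0) : d = 0 ∨ d = a := by
  by_cases h0 : d = 0
  · exact Or.inl h0
  refine Or.inr ?_
  have hfix : th m (d / a) = d / a := by
    have hta : th m a ≠ 0 := fun e => ha (th_eq_zero e)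
    rw [div_eq_mul_inv, th_mul, th_inv]
    field_simp
    unfold Lf at hd
    linear_combination hd - th m a * d * h.two
  by_contra hne
  exact th_ne_self h (div_ne_zero h0 ha) (fun e => hne ((div_eq_one_iff_eq ha).mp e)) hfix

theorem char_unique {a : F} (ha : a ≠ 0) {χ χ' : AddChar F ℂ} (h0 : χ ≠ 0) (h0' : χ' ≠ 0)
    (e : ∀ x, χ (Lf m a x) = 1) (e' : ∀ x, χ' (Lf m a x) = 1) : χ = χ' := by
  classical
  set I : Finset F := Finset.univ.image (Lf m a) with hI
  have hIq : Fintype.card F ≤ 2 * I.card := by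
    refine Finset.card_le_mul_card_image (Finset.univ : Finset F) 2 fun b hb => ?_
    obtain ⟨x, -, rfl⟩ := Finset.mem_image.mp hb
    refine (Finset.card_le_card (t := {x, x + a}) fun y hy => ?_).trans Finset.card_le_two
    have hy' := (Finset.mem_filter.mp hy).2
    have hd : Lf m a (x + y) = 0 := by rw [Lf_add_right h, hy']; linear_combination Lf m a x * h.two
    rcases Lf_kernel h ha hd with hd | hd
    · exact Finset.mem_insert.mpr (Or.inl (by linear_combination hd - x * h.two))
    · exact Finset.mem_insert.mpr (Or.inr (Finset.mem_singleton.mpr (by linear_combination hd - x * h.two)))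
  have hval : ∀ (ψ : AddChar F ℂ), ψ ≠ 0 → (∀ x, ψ (Lf m a x) = 1) → ∀ u, ψ u = if u ∈ I then 1 else -1 := by
    intro ψ hψ hψ1
    have hin : ∀ u ∈ I, ψ u = 1 := fun u hu => by
      obtain ⟨x, -, rfl⟩ := Finset.mem_image.mp hu; exact hψ1 x
    intro u
    by_cases hu : u ∈ I
    · rw [if_pos hu, hin u hu]
    rw [if_neg hu]
    rcases mul_self_eq_one_iff.mp (char_sq h ψ u) with hu1 | hu1
    · exfalso
      refine hψ (DFunLike.ext _ _ fun w => ?_)
      rw [AddChar.zero_apply]
      have hdis : Disjoint I (I.image (fun i => u + i)) := by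
        refine Finset.disjoint_left.mpr fun v hv hv' => hu ?_
        obtain ⟨i, hi, rfl⟩ := Finset.mem_image.mp hv'
        obtain ⟨x, -, hx⟩ := Finset.mem_image.mp hv
        obtain ⟨y, -, hy⟩ := Finset.mem_image.mp hi
        refine Finset.mem_image.mpr ⟨x + y, Finset.mem_univ _, ?_⟩
        rw [Lf_add_right h, hx, hy]
        linear_combination i * h.two
      have hall : I ∪ I.image (fun i => u + i) = Finset.univ := by
        refine Finset.eq_univ_of_card _ (le_antisymm (Finset.card_le_univ _) ?_)
        rw [Finset.card_union_of_disjoint hdis, Finset.card_image_of_injective _ (add_right_injective u)]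
        omega
      rcases Finset.mem_union.mp (hall ▸ Finset.mem_univ w : w ∈ I ∪ I.image (fun i => u + i)) with hw | hw
      · exact hin w hw
      · obtain ⟨i, hi, rfl⟩ := Finset.mem_image.mp hw
        rw [AddChar.map_add_eq_mul, hu1, hin i hi, one_mul]
    · exact hu1
  exact DFunLike.ext _ _ fun u => by rw [hval χ h0 e u, hval χ' h0' e' u]

theorem exists_small_radical : ∃ χ : AddChar F ℂ, χ ≠ 0 ∧
    ∀ a b : F, a ≠ 0 → b ≠ 0 → (∀ x, χ (Lf m a x) = 1) → (∀ x, χ (Lf m b x) = 1) → a = b := by
  classical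
  by_contra hcon
  push Not at hcon
  set s := (Finset.univ : Finset (AddChar F ℂ)).erase 0 with hs
  have hcard : s.card = Fintype.card F - 1 := by
    rw [hs, Finset.card_erase_of_mem (Finset.mem_univ _), Finset.card_univ, AddChar.card_eq]
  let R : AddChar F ℂ → F → Prop := fun χ a => ∀ x, χ (Lf m a x) = 1
  have h1 : 2 * s.card ≤ ∑ χ ∈ s, ((Finset.univ.erase (0 : F)).filter (R χ)).card := by
    rw [mul_comm, ← smul_eq_mul, ← Finset.sum_const]
    refine Finset.sum_le_sum fun χ hχ => ?_
    obtain ⟨a, b, ha, hb, hRa, hRb, hne⟩ := hcon χ (Finset.ne_of_mem_erase hχ)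
    refine le_of_eq_of_le (Finset.card_pair hne).symm (Finset.card_le_card ?_)
    intro z hz
    rcases Finset.mem_insert.mp hz with rfl | hz
    · simp [R, ha]; exact hRa
    · rw [Finset.mem_singleton.mp hz]; simp [R, hb]; exact hRb
  have h2 : ∑ χ ∈ s, ((Finset.univ.erase (0 : F)).filter (R χ)).card ≤ Fintype.card F - 1 := by
    refine (Finset.sum_card_bipartiteAbove_eq_sum_card_bipartiteBelow (s := s) (t := Finset.univ.erase (0 : F))
      (r := R)).trans_le ?_
    refine (Finset.sum_le_card_nsmul _ _ 1 fun a ha => ?_).trans (by simp)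
    refine Finset.card_le_one.mpr fun χ hχ χ' hχ' => ?_
    simp only [Finset.bipartiteBelow, Finset.mem_filter, hs, Finset.mem_erase] at hχ hχ'
    exact char_unique h (Finset.ne_of_mem_erase ha) hχ.1.1 hχ'.1.1 hχ.2 hχ'.2
  have := h.q_ge
  omega

variable {V : Type*} [AddCommGroup V] [Module ℂ V] [FiniteDimensional ℂ V] (ρ : G F m →* Module.End ℂ V)

theorem min_degree_faithful (hρ : Function.Injective ρ) :
    2 ^ m * (2 ^ (2 * m + 1) - 1) ≤ Module.finrank ℂ V := by
  classical
  set q := Fintype.card F with hq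
  have h8 : 8 ≤ q := h.q_ge
  have hq0 : (q : ℂ) ≠ 0 := Nat.cast_ne_zero.mpr (by omega)
  set T : F → Module.End ℂ V := fun z => ρ (gU h 0 z) with hT
  have hTadd : ∀ z w, T (z + w) = T z * T w := fun z w => by
    simp only [hT, ← map_mul, gU_mul, add_zero, th_zero, zero_mul, mul_zero]
  have hT0 : T 0 = 1 := by simp only [hT, gU_zero, map_one]
  set P : AddChar F ℂ → Module.End ℂ V := fun χ => (q : ℂ)⁻¹ • ∑ z, χ z • T z with hP
  have hTP : ∀ χ w, T w * P χ = χ w • P χ := by
    intro χ w
    show T w * ((q : ℂ)⁻¹ • ∑ z, χ z • T z) = χ w • ((q : ℂ)⁻¹ • ∑ z, χ z • T z)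
    rw [mul_smul_comm, smul_comm (χ w)]
    refine congrArg _ ?_
    rw [Finset.mul_sum, Finset.smul_sum]
    refine Fintype.sum_equiv (M := Module.End ℂ V) (Equiv.addLeft w) _ _ fun z => ?_
    show T w * (χ z • T z) = χ w • χ (w + z) • T (w + z)
    rw [mul_smul_comm]
    rw [smul_smul, AddChar.map_add_eq_mul, ← mul_assoc, char_sq h, one_mul, hTadd]
  have hPP : ∀ χ, P χ * P χ = P χ := by
    intro χ
    conv_lhs => enter [1]; rw [hP]
    simp only [smul_mul_assoc, Finset.sum_mul, hTP, smul_smul, char_sq h, one_smul, Finset.sum_const,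
      Finset.card_univ, ← hq]
    rw [← Nat.cast_smul_eq_nsmul ℂ, smul_smul, inv_mul_cancel₀ hq0, one_smul]
  have hsum : ∑ χ, P χ = 1 := by
    simp only [hP, ← Finset.smul_sum]
    rw [Finset.sum_comm]
    simp only [← Finset.sum_smul, AddChar.sum_apply_eq_ite, ite_smul, zero_smul, Finset.sum_ite_eq',
      Finset.mem_univ, if_true, hT0, ← hq]
    rw [smul_smul, inv_mul_cancel₀ hq0, one_smul]
  set d : AddChar F ℂ → ℕ := fun χ => Module.finrank ℂ (LinearMap.range (P χ)) with hd
  have htr : ∀ χ, LinearMap.trace ℂ V (P χ) = (d χ : ℂ) := by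
    intro χ
    refine LinearMap.IsProj.trace ⟨fun x => LinearMap.mem_range_self _ x, ?_⟩
    rintro x ⟨y, rfl⟩
    exact LinearMap.congr_fun (hPP χ) y
  have htot : ∑ χ, d χ = Module.finrank ℂ V := by
    have : ((∑ χ, d χ : ℕ) : ℂ) = (Module.finrank ℂ V : ℂ) := by
      rw [Nat.cast_sum, ← LinearMap.trace_one, ← hsum, map_sum]
      exact Finset.sum_congr rfl fun χ _ => (htr χ).symm
    exact_mod_cast this
  -- the torus permutes the characters
  have hconj : ∀ (s : Fˣ) (χ : AddChar F ℂ), d (χ.mulShift (th m (s : F) * (s : F) ^ 2)) = d χ := by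
    intro s χ
    set μ := th m (s : F) * (s : F) ^ 2
    have hμ : μ ≠ 0 := mul_ne_zero (fun e => s.ne_zero (th_eq_zero e)) (pow_ne_zero _ s.ne_zero)
    set E := ρ (gD h s)
    set E' := ρ (gD h s)⁻¹
    have h1 : ∀ z, E * T z = T (μ * z) * E := by
      intro z
      simp only [hT, E, μ, ← map_mul]
      congr 1
      rw [← eq_mul_inv_iff_mul_eq.mp (gD_gU h s 0 z).symm, mul_zero]
    have h2 : E * P (χ.mulShift μ) = P χ * E := by
      simp only [hP, mul_smul_comm, smul_mul_assoc, Finset.mul_sum, Finset.sum_mul, h1, AddChar.mulShift_apply]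
      congr 1
      exact Fintype.sum_equiv (Equiv.mulLeft₀ μ hμ) _ _ fun z => rfl
    have h3 : E' * E = 1 := by simp only [E, E', ← map_mul, inv_mul_cancel, map_one]
    have h4 : E * E' = 1 := by simp only [E, E', ← map_mul, mul_inv_cancel, map_one]
    have h5 : P (χ.mulShift μ) = E' * (P χ * E) := by rw [← h2, ← mul_assoc, h3, one_mul]
    have h6 := htr (χ.mulShift μ)
    rw [h5, LinearMap.trace_mul_comm, mul_assoc, h4, mul_one, htr] at h6
    exact_mod_cast h6.symm
  obtain ⟨χ, hχ, hrad⟩ := exists_small_radical h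
  have hall : ∀ ψ ∈ (Finset.univ : Finset (AddChar F ℂ)).erase 0, d ψ = d χ := by
    intro ψ hψ
    have hinj : Function.Injective fun s : Fˣ => χ.mulShift (th m (s : F) * (s : F) ^ 2) := by
      intro s t e
      have he : th m (s : F) * (s : F) ^ 2 = th m (t : F) * (t : F) ^ 2 := by
        by_contra hne
        refine hχ (DFunLike.ext _ _ fun z => ?_)
        set δ := th m (s : F) * (s : F) ^ 2 - th m (t : F) * (t : F) ^ 2
        have hδ : δ ≠ 0 := sub_ne_zero.mpr hne
        have h1 := DFunLike.congr_fun e (z / δ)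
        simp only [AddChar.mulShift_apply] at h1
        have h2 : th m (s : F) * (s : F) ^ 2 * (z / δ) = z + th m (t : F) * (t : F) ^ 2 * (z / δ) := by
          have : δ * (z / δ) = z := mul_div_cancel₀ z hδ
          linear_combination this
        rw [h2, AddChar.map_add_eq_mul] at h1
        rw [AddChar.zero_apply]
        exact (mul_eq_right₀ (fun e0 => by
          have := char_sq h χ (th m (t : F) * (t : F) ^ 2 * (z / δ)); simp [e0] at this)).mp h1
      have htt : th m (t : F) * (t : F) ^ 2 ≠ 0 :=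
        mul_ne_zero (fun e' => t.ne_zero (th_eq_zero e')) (pow_ne_zero _ t.ne_zero)
      by_contra hne
      refine lam_ne h (s := (s : F) / (t : F)) (fun e' => hne (Units.ext ((div_eq_one_iff_eq t.ne_zero).mp e'))) ?_
      have htt' : th m (t : F) ≠ 0 := fun e' => t.ne_zero (th_eq_zero e')
      rw [div_pow, div_eq_mul_inv (s : F), th_mul, th_inv]
      field_simp
      linear_combination he
    have himg : Finset.univ.image (fun s : Fˣ => χ.mulShift (th m (s : F) * (s : F) ^ 2)) =
        (Finset.univ : Finset (AddChar F ℂ)).erase 0 := by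
      refine Finset.eq_of_subset_of_card_le (fun φ hφ => ?_) ?_
      · obtain ⟨s, -, rfl⟩ := Finset.mem_image.mp hφ
        refine Finset.mem_erase.mpr ⟨fun e => hχ (DFunLike.ext _ _ fun z => ?_), Finset.mem_univ _⟩
        have h1 := DFunLike.congr_fun e (z / (th m (s : F) * (s : F) ^ 2))
        rw [AddChar.mulShift_apply, mul_div_cancel₀ z
          (mul_ne_zero (fun e' => s.ne_zero (th_eq_zero e')) (pow_ne_zero _ s.ne_zero))] at h1
        simpa using h1
      · rw [Finset.card_image_of_injective _ hinj, Finset.card_erase_of_mem (Finset.mem_univ _), Finset.card_univ,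
          Finset.card_univ, AddChar.card_eq, Fintype.card_units]
    rw [← himg] at hψ
    obtain ⟨s, -, rfl⟩ := Finset.mem_image.mp hψ
    exact hconj s χ
  -- the dimension of one eigenspace
  have hdpos : d χ ≠ 0 := by
    intro h0
    have hP0 : ∀ ψ, ψ ≠ 0 → P ψ = 0 := fun ψ hψ => by
      have h1 : d ψ = 0 := (hall ψ (Finset.mem_erase.mpr ⟨hψ, Finset.mem_univ _⟩)).trans h0
      exact LinearMap.range_eq_bot.mp (Submodule.finrank_eq_zero.mp h1)
    rw [Finset.sum_eq_single (0 : AddChar F ℂ) (fun ψ _ hψ => hP0 ψ hψ) (by simp)] at hsum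
    have h1 : T 1 = 1 := by
      have := hTP 0 1
      rwa [hsum, mul_one, AddChar.zero_apply, one_smul] at this
    have h2 := hρ (show ρ (gU h 0 1) = ρ 1 by rw [map_one]; exact h1)
    exact one_ne_zero ((gU_eq_one_iff h).mp h2).2
  set W := LinearMap.range (P χ) with hW
  have hcomm : ∀ a, ρ (gU h a 0) * P χ = P χ * ρ (gU h a 0) := by
    intro a
    simp only [hP, hT, mul_smul_comm, smul_mul_assoc, Finset.mul_sum, Finset.sum_mul, ← map_mul, gU_mul]
    congr 1
    refine Finset.sum_congr rfl fun z _ => ?_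
    congr 3 <;> simp
  have hinv : ∀ a, ∀ x ∈ W, ρ (gU h a 0) x ∈ W := by
    rintro a x ⟨y, rfl⟩
    exact ⟨ρ (gU h a 0) y, (LinearMap.congr_fun (hcomm a) y).symm⟩
  let N : F → Module.End ℂ W := fun a => (ρ (gU h a 0)).restrict (hinv a)
  have hsc : ∀ z (w : W), T z (w : V) = χ z • (w : V) := by
    rintro z ⟨_, y, rfl⟩
    exact LinearMap.congr_fun (hTP χ z) y
  have hNN : ∀ a x, N a * N x = χ (Lf m a x) • (N x * N a) := by
    intro a x
    refine LinearMap.ext fun w => Subtype.ext ?_
    show ρ (gU h a 0) (ρ (gU h x 0) w.1) = χ (Lf m a x) • ρ (gU h x 0) (ρ (gU h a 0) w.1)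
    have e : gU h a 0 * gU h x 0 = gU h x 0 * gU h a 0 * gU h 0 (Lf m a x) := by
      simp only [gU_mul, Lf]
      congr 1
      · ring
      · simp only [mul_zero, add_zero, zero_add]
        linear_combination (-(th m x * a)) * h.two
    have h1 := congrArg (fun g => ρ g w.1) e
    simp only [map_mul, Module.End.mul_apply] at h1
    rw [h1, show ρ (gU h 0 (Lf m a x)) w.1 = _ from hsc _ w, map_smul, map_smul]
  set S : Finset (F → ℂ) := Finset.univ.image fun a => fun x => χ (Lf m a x) with hS
  have hSq : q ≤ 2 * S.card := by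
    refine Finset.card_le_mul_card_image (Finset.univ : Finset F) 2 fun b hb => ?_
    obtain ⟨a, -, rfl⟩ := Finset.mem_image.mp hb
    by_cases hex : ∃ r, r ≠ 0 ∧ ∀ x, χ (Lf m r x) = 1
    · obtain ⟨r, hr0, hr⟩ := hex
      refine (Finset.card_le_card (t := {a, a + r}) fun y hy => ?_).trans Finset.card_le_two
      have hy' := (Finset.mem_filter.mp hy).2
      have hd : ∀ x, χ (Lf m (a + y) x) = 1 := fun x => by
        rw [Lf_add_left h, AddChar.map_add_eq_mul, congrFun hy' x, char_sq h]
      by_cases h0 : a + y = 0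
      · exact Finset.mem_insert.mpr (Or.inl (by linear_combination h0 - a * h.two))
      · refine Finset.mem_insert.mpr (Or.inr (Finset.mem_singleton.mpr ?_))
        have := hrad _ _ h0 hr0 hd hr
        linear_combination this - a * h.two
    · refine (Finset.card_le_card (t := {a}) fun y hy => ?_).trans (by simp)
      have hy' := (Finset.mem_filter.mp hy).2
      refine Finset.mem_singleton.mpr ?_
      by_contra hne
      refine hex ⟨a + y, fun h0 => hne (by linear_combination h0 - a * h.two), fun x => ?_⟩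
      rw [Lf_add_left h, AddChar.map_add_eq_mul, congrFun hy' x, char_sq h]
  choose rep hrep using fun f : S => (Finset.mem_image.mp f.2)
  have hind : LinearIndependent ℂ fun f : S => N (rep f) := by
    rw [Fintype.linearIndependent_iff]
    intro c hc f
    have hx : ∀ x, ∑ g : S, (c g * χ (Lf m (rep g) x)) • N (rep g) = 0 := by
      intro x
      have h1 : N x * (∑ g : S, c g • N (rep g)) * N x = 0 := by rw [hc, mul_zero, zero_mul]
      have h2 : ∀ g : S, N x * N (rep g) * N x = χ (Lf m (rep g) x) • (N x * N x * N (rep g)) := fun g => by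
        rw [mul_assoc, hNN (rep g) x, mul_smul_comm, mul_assoc]
      rw [Finset.mul_sum, Finset.sum_mul] at h1
      simp only [mul_smul_comm, smul_mul_assoc, h2, smul_smul] at h1
      simp only [← mul_smul_comm, ← Finset.mul_sum] at h1
      refine LinearMap.ext fun w => Subtype.ext ?_
      have h3 := congrArg Subtype.val (LinearMap.congr_fun h1 w)
      have hinjρ : ∀ g : G F m, Function.Injective (ρ g) := fun g u v e => by
        have := congrArg (ρ g⁻¹) e
        rwa [← Module.End.mul_apply, ← Module.End.mul_apply, ← map_mul, inv_mul_cancel, map_one,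
          Module.End.one_apply, Module.End.one_apply] at this
      exact hinjρ _ (hinjρ _ (h3.trans (by simp)))
    have h4 : ∑ x : F, χ (Lf m (rep f) x) • ∑ g : S, (c g * χ (Lf m (rep g) x)) • N (rep g) = 0 := by
      simp only [hx, smul_zero, Finset.sum_const_zero]
    simp only [Finset.smul_sum, smul_smul] at h4
    rw [Finset.sum_comm] at h4
    simp only [← Finset.sum_smul] at h4
    rw [Finset.sum_eq_single f] at h4
    · have h5 : ∑ x : F, χ (Lf m (rep f) x) * (c f * χ (Lf m (rep f) x)) = q * c f := by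
        rw [Finset.sum_congr rfl fun x _ => show χ (Lf m (rep f) x) * (c f * χ (Lf m (rep f) x)) = c f by
          linear_combination c f * char_sq h χ (Lf m (rep f) x), Finset.sum_const, Finset.card_univ, nsmul_eq_mul]
      rw [h5] at h4
      refine (mul_eq_zero.mp ((smul_eq_zero.mp h4).resolve_right fun hN => ?_)).resolve_left hq0
      haveI : Nontrivial W := Module.nontrivial_of_finrank_pos (R := ℂ) (Nat.pos_of_ne_zero hdpos)
      obtain ⟨w, hw⟩ := exists_ne (0 : W)
      have h6 := congrArg Subtype.val (LinearMap.congr_fun hN w)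
      have h7 := congrArg (ρ (gU h (rep f) 0)⁻¹) h6
      refine hw (Subtype.ext ?_)
      simp only [LinearMap.zero_apply, ZeroMemClass.coe_zero, map_zero] at h7
      rw [ZeroMemClass.coe_zero, ← h7]
      show (w : V) = ρ (gU h (rep f) 0)⁻¹ (ρ (gU h (rep f) 0) w.1)
      rw [← Module.End.mul_apply, ← map_mul, inv_mul_cancel, map_one, Module.End.one_apply]
    · intro g _ hgf
      let ψ : AddChar F ℂ :=
        { toFun := fun x => χ (Lf m (rep f + rep g) x)
          map_zero_eq_one' := by simp [Lf]
          map_add_eq_mul' := fun x y => by rw [Lf_add_right h, AddChar.map_add_eq_mul] }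
      have hψ : ψ ≠ 0 := fun e => hgf (Subtype.ext (by
        rw [← (hrep g).2, ← (hrep f).2]
        funext x
        have h1 : χ (Lf m (rep f + rep g) x) = 1 := DFunLike.congr_fun e x
        rw [Lf_add_left h, AddChar.map_add_eq_mul] at h1
        linear_combination χ (Lf m (rep f) x) * h1 - χ (Lf m (rep g) x) * char_sq h χ (Lf m (rep f) x)))
      rw [Finset.sum_congr rfl fun x _ => show χ (Lf m (rep f) x) * (c g * χ (Lf m (rep g) x)) = c g * ψ x by
        show _ = c g * χ (Lf m (rep f + rep g) x)
        rw [Lf_add_left h, AddChar.map_add_eq_mul]; ring, ← Finset.mul_sum,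
        AddChar.sum_eq_zero_iff_ne_zero.mpr hψ, mul_zero, zero_smul]
    · simp
  have hfin := hind.fintype_card_le_finrank
  rw [Module.finrank_linearMap, Fintype.card_coe] at hfin
  have hd2 : (2 ^ m) * (2 ^ m) ≤ d χ * d χ := by
    have : q = 2 * (2 ^ m * 2 ^ m) := by rw [hq, h.hF, ← pow_add, ← pow_succ']; congr 1; omega
    have : S.card ≤ d χ * d χ := hfin
    omega
  have hdm : 2 ^ m ≤ d χ := Nat.mul_self_le_mul_self_iff.mp hd2
  calc 2 ^ m * (2 ^ (2 * m + 1) - 1) ≤ d χ * (2 ^ (2 * m + 1) - 1) := Nat.mul_le_mul_right _ hdm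
    _ = ∑ ψ ∈ (Finset.univ : Finset (AddChar F ℂ)).erase 0, d ψ := by
      rw [Finset.sum_congr rfl hall, Finset.sum_const, smul_eq_mul, Finset.card_erase_of_mem (Finset.mem_univ _),
        Finset.card_univ, AddChar.card_eq, h.hF, mul_comm]
    _ ≤ ∑ ψ, d ψ := Finset.sum_le_sum_of_subset (Finset.subset_univ _)
    _ = _ := htot

theorem min_degree {k : ℕ} (σ : Representation ℂ (G F m) (Fin k → ℂ)) (hirr : σ.IsIrreducible) (hk : 2 ≤ k) :
    2 ^ m * (2 ^ (2 * m + 1) - 1) ≤ k := by
  classical
  haveI := simple h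
  have hnt : ∃ g, σ g ≠ 1 := by
    by_contra hcon
    push Not at hcon
    haveI : Nonempty (Fin k) := ⟨⟨0, by omega⟩⟩
    let v : Fin k → ℂ := fun _ => 1
    let L : Subrepresentation σ :=
      ⟨ℂ ∙ v, fun g x hx => by rw [hcon g]; exact hx⟩
    rcases (show IsSimpleOrder (Subrepresentation σ) from hirr).eq_bot_or_eq_top L with e | e
    · have hv : v ∈ (L : Subrepresentation σ).toSubmodule := Submodule.mem_span_singleton_self v
      rw [e] at hv
      have := congrFun ((Submodule.mem_bot ℂ).mp hv) ⟨0, by omega⟩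
      simp [v] at this
    · have h1 : Module.finrank ℂ L.toSubmodule = k := by
        rw [e]; show Module.finrank ℂ (⊤ : Submodule ℂ (Fin k → ℂ)) = k
        rw [finrank_top, Module.finrank_fin_fun]
      have h2 : Module.finrank ℂ L.toSubmodule ≤ 1 := finrank_span_le_card ({v} : Set (Fin k → ℂ)) |>.trans (by simp)
      omega
  have hinj : Function.Injective σ := by
    let u : G F m →* (Module.End ℂ (Fin k → ℂ))ˣ := σ.toHomUnits
    have hu : Function.Injective u := by
      rw [← MonoidHom.ker_eq_bot_iff]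
      refine (IsSimpleGroup.eq_bot_or_eq_top_of_normal u.ker inferInstance).resolve_right fun e => ?_
      obtain ⟨g, hg⟩ := hnt
      exact hg (congrArg Units.val (show u g = 1 from (MonoidHom.mem_ker).mp (e ▸ Subgroup.mem_top g)))
    exact fun a b e => hu (Units.ext e)
  have := min_degree_faithful h (V := Fin k → ℂ) σ hinj
  rwa [Module.finrank_fin_fun] at this

end CfsgLib.Sz
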