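import Cfsg.Agent.Sz.FixityTwo
import Cfsg.Agent.Sz.TwoModules
set_option autoImplicit false

/-!
Normalisers of the cyclic parts of the Suzuki group and the elements they contain.
-/

namespace CfsgLib.Sz

variable {F : Type*} [Field F] [Fintype F] {m : ℕ} (h : Hyp F m)
include h

theorem part_conj_normalizer (U : Subgroup (G F m)) (k : G F m) :
    Subgroup.normalizer ((U.map (MulAut.conj k).toMonoidHom : Subgroup (G F m)) : Set (G F m)) =
      (Subgroup.normalizer (U : Set (G F m))).map (MulAut.conj k).toMonoidHom :=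
  (Subgroup.map_equiv_normalizer_eq U (MulAut.conj k)).symm

/-- The normaliser of the diagonal group. -/
noncomputable def dihEquiv : Fˣ × Bool ≃ {g : G F m // g ∈ Subgroup.normalizer ((gDhom h).range : Set (G F m))} :=
  Equiv.ofBijective (fun p => ⟨if p.2 then gD h p.1 * gW h else gD h p.1, by
    have hD : ∀ t, gD h t ∈ Subgroup.normalizer ((gDhom h).range : Set (G F m)) := fun t =>
      Subgroup.le_normalizer ⟨t, rfl⟩
    have hW : gW h ∈ Subgroup.normalizer ((gDhom h).range : Set (G F m)) := by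
      refine Subgroup.mem_normalizer_fintype ?_
      rintro _ ⟨t, rfl⟩
      exact ⟨t⁻¹, by rw [gW_inv]; exact (gW_gD h t).symm⟩
    split
    · exact mul_mem (hD _) hW
    · exact hD _⟩) ⟨fun p p' e => by
      have e' : (if p.2 then gD h p.1 * gW h else gD h p.1) = (if p'.2 then gD h p'.1 * gW h else gD h p'.1) :=
        congrArg Subtype.val e
      have hne : ∀ s t, gD h s * gW h ≠ gD h t := fun s t e0 => by
        have h1 := congrArg (fun g => act h g (oinf m)) e0
        simp only [act_mul, gW_oinf, gD_oinf, gD_opt, mul_zero] at h1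
        exact opt_ne_oinf m _ _ h1
      obtain ⟨s, x⟩ := p
      obtain ⟨t, y⟩ := p'
      cases x <;> cases y <;> simp only [Bool.false_eq_true, if_false, if_true] at e'
      · exact Prod.ext (gD_injective h e') rfl
      · exact absurd e'.symm (hne _ _)
      · exact absurd e' (hne _ _)
      · exact Prod.ext (gD_injective h (mul_right_cancel e')) rfl, by
    rintro ⟨g, hg⟩
    obtain ⟨c, hc0, hc1⟩ := exists_ne_01 h
    set s1 : Fˣ := Units.mk0 c hc0
    have hs1 : s1 ≠ 1 := fun e => hc1 (congrArg Units.val e)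
    obtain ⟨t, ht⟩ := (Subgroup.mem_normalizer_iff.mp hg (gD h s1)).mp ⟨s1, rfl⟩
    have ht1 : t ≠ 1 := fun e => hs1 (gD_injective h (by
      have e2 : g * gD h s1 * g⁻¹ = 1 := by rw [← ht, e]; exact map_one _
      rw [gD_one]
      calc gD h s1 = g⁻¹ * (g * gD h s1 * g⁻¹) * g := by group
        _ = 1 := by rw [e2]; group))
    have hset : ∀ p, act h (gD h s1) p = p → act h g p = oinf m ∨ act h g p = opt m 0 0 := by
      intro p hp
      have h1 : act h (gD h t) (act h g p) = act h g p := by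
        rw [show gD h t = g * gD h s1 * g⁻¹ from ht]; exact conj_move h hp
      rcases Ov.cases' m (act h g p) with e | ⟨x, y, e⟩
      · exact Or.inl e
      · refine Or.inr ?_
        by_cases h0 : x = 0 ∧ y = 0
        · rw [e, h0.1, h0.2]
        · exact absurd (gD_fix_imp h h0 (e ▸ h1)) ht1
    have h00 : act h (gD h s1) (opt m 0 0) = opt m 0 0 := by rw [gD_opt, mul_zero, mul_zero]
    have hinj : act h g (oinf m) ≠ act h g (opt m 0 0) := fun e => by
      have := congrArg (act h g⁻¹) e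
      rw [← act_mul, ← act_mul, inv_mul_cancel, act_one, act_one] at this
      exact opt_ne_oinf m _ _ this.symm
    rcases hset _ (gD_oinf h s1) with e1 | e1 <;> rcases hset _ h00 with e2 | e2
    · exact absurd (e1.trans e2.symm) hinj
    · obtain ⟨s, rfl⟩ := eq_gD_of_fix_two h e1 e2
      exact ⟨(s, false), rfl⟩
    · obtain ⟨s, hs⟩ := eq_gD_of_fix_two h (g := g * gW h)
        (by rw [act_mul, gW_oinf, e2]) (by rw [act_mul, gW_opt_zero, e1])
      refine ⟨(s, true), Subtype.ext ?_⟩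
      show gD h s * gW h = g
      rw [← hs, mul_assoc, gW_sq, mul_one]
    · exact absurd (e1.trans e2.symm) hinj⟩

theorem card_dih : Nat.card (Subgroup.normalizer ((gDhom h).range : Set (G F m))) = 2 * (Fintype.card F - 1) := by
  classical
  rw [← Nat.card_congr (dihEquiv h), Nat.card_prod, Nat.card_units, Nat.card_eq_fintype_card, Nat.card_eq_fintype_card,
    Fintype.card_bool, mul_comm]

theorem card_range_gD : Nat.card (gDhom h).range = Fintype.card F - 1 := by
  classical
  rw [← Nat.card_congr (MonoidHom.ofInjective (f := gDhom h) (gD_injective h)).toEquiv, Nat.card_eq_fintype_card,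
    Fintype.card_units]

/-- The index of a cyclic part in its normaliser. -/
def dOf (F : Type*) [Fintype F] (k : ℕ) : ℕ := if k = Fintype.card F - 1 then 2 else 4

omit h in
theorem dOf_dvd (k : ℕ) : dOf F k ∣ 4 := by
  unfold dOf; split <;> norm_num

theorem cyclic_part_cases {U : Subgroup (G F m)} (hc : IsCyclic U) (hcard : Nat.card U ∈ Ks m) :
    (Nat.card U = Fintype.card F - 1 ∧ ∃ k : G F m, U = (gDhom h).range.map (MulAut.conj k).toMonoidHom) ∨
      (Nat.card U ≠ Fintype.card F - 1 ∧ ∃ u, Tor u ∧ U = tz u) := by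
  obtain ⟨hodd, hcop⟩ := Ks_facts h
  obtain ⟨g, hg, hg1⟩ : ∃ g ∈ U, g ≠ 1 := by
    by_contra hcon
    push Not at hcon
    have : U = ⊥ := (Subgroup.eq_bot_iff_forall _).mpr hcon
    rw [this, Subgroup.card_bot] at hcard
    exact absurd (hodd _ hcard).1 (by norm_num)
  obtain ⟨V, -, hV⟩ := (trich h).partition hodd hcop g hg1
  have hUV := hV U ⟨Or.inr ⟨hc, hcard⟩, hg⟩
  by_cases hf : Fpf h g
  · obtain ⟨u, hu, hgu⟩ := exists_tor_of_fpf h hf
    have hK : Nat.card (tz u) ∈ Ks m := by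
      rcases ((tori h).1 u hu).1 with e | e <;> rw [e, h.hF] <;> simp [Ks]
    have e : U = tz u := by rw [hUV, hV (tz u) ⟨Or.inr ⟨(tz_facts h hu).1, hK⟩, hgu⟩]
    refine Or.inr ⟨fun hq => ?_, u, hu, e⟩
    have h1 := (tz_facts h hu).2.1
    rw [← e, hq] at h1
    have h2 := N_coprime h
    have := Nat.eq_one_of_dvd_coprimes h2 h1 (Dvd.intro_left _ rfl)
    have := h.q_ge
    omega
  · obtain ⟨p, hp⟩ : ∃ p, act h g p = p := by simpa [Fpf] using hf
    obtain ⟨k, hk⟩ := exists_move h p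
    obtain ⟨a, b, s, hs⟩ := (mem_borel_iff h).mp (conj_fix h hk hp : k⁻¹ * g * k ∈ borel h)
    have hs1 : s ≠ 1 := by
      intro e
      rw [e, gD_one, mul_one] at hs
      have hgP : g ∈ ((k • sylU h : Sylow 2 (G F m)) : Subgroup (G F m)) := ⟨gU h a b, ⟨a, b, rfl⟩, by
        show k * gU h a b * k⁻¹ = g
        rw [← hs]; group⟩
      have e2 : U = (k • sylU h : Sylow 2 (G F m)) := by rw [hUV, hV _ ⟨Or.inl ⟨_, rfl⟩, hgP⟩]
      have hpg : IsPGroup 2 U := e2 ▸ (k • sylU h).isPGroup'
      haveI : Fact (Nat.Prime 2) := ⟨Nat.prime_two⟩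
      obtain ⟨n, hn⟩ := IsPGroup.iff_card.mp hpg
      rcases n with - | n
      · exact absurd (hodd _ hcard).1 (by rw [hn]; norm_num)
      · exact (hodd _ hcard).2 (hn ▸ dvd_pow_self 2 (Nat.succ_ne_zero n))
    obtain ⟨x, y, hxy⟩ := gD_coords h (a := a) (b := b) hs1
    set d := gU h x y with hd
    have hk2 : act h (k * d) (opt m 0 0) = act h k (opt m x y) := by rw [act_mul, hd, gU_smul_zero]
    obtain ⟨t, ht⟩ := eq_gD_of_fix_two h (g := (k * d)⁻¹ * g * (k * d))
      (conj_fix h (by rw [act_mul, hd, gU_oinf, hk]) hp)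
      (conj_fix h hk2 (by
        rw [show g = k * (gU h a b * gD h s) * k⁻¹ by rw [← hs]; group]
        exact conj_move h hxy))
    have hgD : g ∈ (gDhom h).range.map (MulAut.conj (k * d)).toMonoidHom := ⟨gD h t, ⟨t, rfl⟩, by
      show k * d * gD h t * (k * d)⁻¹ = g
      rw [← ht]; group⟩
    haveI : IsCyclic (gDhom h).range :=
      isCyclic_of_surjective (gDhom h).rangeRestrict (gDhom h).rangeRestrict_surjective
    have hDcard : Nat.card ((gDhom h).range.map (MulAut.conj (k * d)).toMonoidHom : Subgroup (G F m)) =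
        Fintype.card F - 1 := by
      rw [Subgroup.card_map_of_injective (MulEquiv.injective _), card_range_gD h]
    have e : U = (gDhom h).range.map (MulAut.conj (k * d)).toMonoidHom := by
      exact hUV.trans (hV _ ⟨Or.inr ⟨isCyclic_of_surjective ((MulAut.conj (k * d)).subgroupMap _) (MulEquiv.surjective _),
        Set.mem_of_eq_of_mem hDcard (by rw [h.hF]; simp [Ks])⟩, hgD⟩).symm
    exact Or.inl ⟨by rw [e, hDcard], k * d, e⟩

theorem card_normalizer_part {U : Subgroup (G F m)} (hc : IsCyclic U) (hcard : Nat.card U ∈ Ks m) :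
    Nat.card (Subgroup.normalizer (U : Set (G F m))) = dOf F (Nat.card U) * Nat.card U := by
  rcases cyclic_part_cases h hc hcard with ⟨hq, k, rfl⟩ | ⟨hq, u, hu, rfl⟩
  · rw [dOf, if_pos hq, hq, part_conj_normalizer h, Subgroup.card_map_of_injective (MulEquiv.injective _), card_dih]
  · rw [dOf, if_neg hq]
    exact ((tori h).1 u hu).2

theorem pow_four_mem {U : Subgroup (G F m)} (hc : IsCyclic U) (hcard : Nat.card U ∈ Ks m) {x : G F m}
    (hx : x ∈ Subgroup.normalizer (U : Set (G F m))) : x ^ 4 ∈ U := by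
  set N := Subgroup.normalizer (U : Set (G F m))
  haveI : (U.subgroupOf N).Normal := Subgroup.normal_in_normalizer
  have h1 := Subgroup.card_mul_index (U.subgroupOf N)
  rw [Nat.card_congr (Subgroup.subgroupOfEquivOfLe (Subgroup.le_normalizer)).toEquiv, card_normalizer_part h hc hcard,
    mul_comm (dOf F _)] at h1
  have h2 := Nat.eq_of_mul_eq_mul_left Nat.card_pos h1
  obtain ⟨j, hj⟩ := dOf_dvd (F := F) (Nat.card U)
  have := Subgroup.pow_index_mem (U.subgroupOf N) (⟨x, hx⟩ : N)
  rw [h2] at this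
  have h3 := pow_mem this j
  rw [← pow_mul, ← hj] at h3
  exact h3

theorem odd_mem {U : Subgroup (G F m)} (hc : IsCyclic U) (hcard : Nat.card U ∈ Ks m) {x : G F m}
    (hx : x ∈ Subgroup.normalizer (U : Set (G F m))) (hodd : Nat.Coprime (orderOf x) 4) : x ∈ U := by
  obtain ⟨n, hn⟩ := exists_pow_eq_self_of_coprime hodd.symm
  rw [← hn]
  exact pow_mem (pow_four_mem h hc hcard hx) n

theorem cent_eq {U : Subgroup (G F m)} (hc : IsCyclic U) (hcard : Nat.card U ∈ Ks m) {g z : G F m}
    (hg : g ∈ U) (hg1 : g ≠ 1) (hz : z * g = g * z) : z ∈ U :=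
  part_comm (trich h) (Ks_facts h).1 (Ks_facts h).2 hg1 (Or.inr ⟨hc, hcard⟩) hg hz

theorem part_unique {U V : Subgroup (G F m)} (hU : IsPart (Ks m) U) (hV : IsPart (Ks m) V) {g : G F m}
    (hgU : g ∈ U) (hgV : g ∈ V) (hg1 : g ≠ 1) : U = V := by
  obtain ⟨W, -, hW⟩ := (trich h).partition (Ks_facts h).1 (Ks_facts h).2 g hg1
  rw [hW U ⟨hU, hgU⟩, hW V ⟨hV, hgV⟩]

theorem exists_ne_one_mem {U : Subgroup (G F m)} (hcard : Nat.card U ∈ Ks m) : ∃ u ∈ U, u ≠ 1 := by
  by_contra hcon
  push Not at hcon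
  have : U = ⊥ := (Subgroup.eq_bot_iff_forall _).mpr hcon
  rw [this, Subgroup.card_bot] at hcard
  exact absurd ((Ks_facts h).1 _ hcard).1 (by norm_num)

theorem invol_mul_mem {U : Subgroup (G F m)} (hc : IsCyclic U) (hcard : Nat.card U ∈ Ks m) {i j : G F m}
    (i2 : i * i = 1) (i1 : i ≠ 1) (hi : i ∈ Subgroup.normalizer (U : Set (G F m)))
    (j2 : j * j = 1) (j1 : j ≠ 1) (hj : j ∈ Subgroup.normalizer (U : Set (G F m))) : i * j ∈ U := by
  obtain ⟨u, hu, hu1⟩ := exists_ne_one_mem h hcard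
  refine cent_eq h hc hcard hu hu1 ?_
  have e1 := invol_inverts h hc hcard j2 j1 hj hu
  have e2 := invol_inverts h hc hcard i2 i1 hi (inv_mem hu)
  rw [inv_inv] at e2
  calc i * j * u = i * (j * u * (j * j)) := by rw [j2]; group
    _ = i * (j * u * j) * j := by group
    _ = i * u⁻¹ * (i * i) * j := by rw [e1, i2, mul_one]
    _ = i * u⁻¹ * i * (i * j) := by group
    _ = u * (i * j) := by rw [e2]

theorem invol_mem_mul {U : Subgroup (G F m)} (hc : IsCyclic U) (hcard : Nat.card U ∈ Ks m) {i u : G F m}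
    (i2 : i * i = 1) (i1 : i ≠ 1) (hi : i ∈ Subgroup.normalizer (U : Set (G F m))) (hu : u ∈ U) :
    (i * u) * (i * u) = 1 ∧ i * u ≠ 1 := by
  refine ⟨?_, fun e => ?_⟩
  · calc i * u * (i * u) = (i * u * i) * u := by group
      _ = 1 := by rw [invol_inverts h hc hcard i2 i1 hi hu, inv_mul_cancel]
  · have : i ∈ U := by rw [eq_inv_of_mul_eq_one_left e]; exact inv_mem hu
    have h4 := Subgroup.orderOf_dvd_natCard U this
    haveI : Fact (Nat.Prime 2) := ⟨Nat.prime_two⟩
    rw [orderOf_eq_prime (by rw [sq]; exact i2) i1] at h4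
    exact ((Ks_facts h).1 _ hcard).2 h4

theorem exists_invol_normalizer {U : Subgroup (G F m)} (hc : IsCyclic U) (hcard : Nat.card U ∈ Ks m) :
    ∃ i, i ∈ Subgroup.normalizer (U : Set (G F m)) ∧ i * i = 1 ∧ i ≠ 1 := by
  haveI : Fact (Nat.Prime 2) := ⟨Nat.prime_two⟩
  have h2 : 2 ∣ Nat.card (Subgroup.normalizer (U : Set (G F m))) := by
    rw [card_normalizer_part h hc hcard]
    refine Dvd.dvd.mul_right ?_ _
    unfold dOf; split <;> norm_num
  obtain ⟨⟨i, hi⟩, hio⟩ := exists_prime_orderOf_dvd_card' (G := Subgroup.normalizer (U : Set (G F m))) 2 h2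
  rw [← Subgroup.orderOf_coe] at hio
  simp only at hio
  exact ⟨i, hi, by rw [← sq, ← hio, pow_orderOf_eq_one], fun e => by rw [e, orderOf_one] at hio; omega⟩

theorem fixing_invol_inter {U : Subgroup (G F m)} (hc : IsCyclic U) (hcard : Nat.card U ∈ Ks m) {i : G F m}
    (i2 : i * i = 1) (i1 : i ≠ 1) (hi : i ∈ Subgroup.normalizer (U : Set (G F m))) (hib : i ∈ borel h)
    {y : G F m} (hy : y ∈ U) (hyb : y ∈ borel h) : y = 1 := by
  obtain ⟨a, b, s, hs⟩ := (mem_borel_iff h).mp hyb
  obtain ⟨z, hz⟩ := borel_invol h (hib : act h i (oinf m) = oinf m) i2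
  have e := invol_inverts h hc hcard i2 i1 hi hy
  rw [hs, hz] at e
  have e2 : gU h 0 z * (gU h a b * gD h s) * gU h 0 z * (gU h a b * gD h s) = gU h 0 0 * gD h 1 := by
    rw [e, inv_mul_cancel, gU_zero, gD_one, one_mul]
  have e3 : gU h 0 z * (gU h a b * gD h s) = gU h (0 + a) (z + b + th m (0 : F) * a) * gD h s := by
    rw [← mul_assoc, gU_mul]
  have e4 : gU h 0 z = gU h 0 z * gD h 1 := by rw [gD_one, mul_one]
  rw [e3] at e2
  nth_rewrite 1 [e4] at e2
  rw [gUD_mul, gUD_mul] at e2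
  have hs2 := (gUD_injective h e2).2.2
  rw [mul_one] at hs2
  have hs1 : s = 1 := unit_sq_eq_one h hs2
  rw [hs1, gD_one, mul_one] at hs
  obtain ⟨n, hn⟩ := IsPGroup.iff_orderOf.mp (isPGroup_Usub h) ⟨y, ⟨a, b, hs⟩⟩
  rw [← Subgroup.orderOf_coe] at hn
  simp only at hn
  have hd := Subgroup.orderOf_dvd_natCard U hy
  rw [hn] at hd
  rcases n with - | n
  · exact orderOf_eq_one_iff.mp (by rw [hn, pow_zero])
  · exact absurd ((dvd_pow_self 2 (Nat.succ_ne_zero n)).trans hd) ((Ks_facts h).1 _ hcard).2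

/-- The normaliser of a cyclic part meets the point stabiliser of an involution in it in a complement. -/
theorem card_inter_borel {U : Subgroup (G F m)} (hc : IsCyclic U) (hcard : Nat.card U ∈ Ks m) {i : G F m}
    (i2 : i * i = 1) (i1 : i ≠ 1) (hi : i ∈ Subgroup.normalizer (U : Set (G F m))) (hib : i ∈ borel h) :
    Nat.card ↥(Subgroup.normalizer (U : Set (G F m)) ⊓ borel h) = dOf F (Nat.card U) := by
  classical
  haveI : Fact (Nat.Prime 2) := ⟨Nat.prime_two⟩
  set N := Subgroup.normalizer (U : Set (G F m)) with hN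
  set M := N ⊓ borel h with hM
  have hdis : U ⊓ M = ⊥ := by
    rw [eq_bot_iff]
    rintro y ⟨hyU, -, hyb⟩
    exact fixing_invol_inter h hc hcard i2 i1 hi hib hyU hyb
  have hcN := card_normalizer_part h hc hcard
  have hle : Nat.card M ≤ dOf F (Nat.card U) := by
    have hinj : Function.Injective (fun p : U × M => (⟨p.1.1 * p.2.1,
        mul_mem (Subgroup.le_normalizer p.1.2) p.2.2.1⟩ : N)) := by
      rintro ⟨⟨u, hu⟩, ⟨v, hv⟩⟩ ⟨⟨u', hu'⟩, ⟨v', hv'⟩⟩ e
      have e1 : u * v = u' * v' := congrArg Subtype.val e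
      have e2 : u'⁻¹ * u = v' * v⁻¹ := by
        rw [inv_mul_eq_iff_eq_mul, ← mul_assoc, ← e1, mul_inv_cancel_right]
      have hmM : u'⁻¹ * u ∈ M := by rw [e2]; exact mul_mem hv' (inv_mem hv)
      have h1 : u'⁻¹ * u ∈ U ⊓ M := Subgroup.mem_inf.mpr ⟨mul_mem (inv_mem hu') hu, hmM⟩
      rw [hdis, Subgroup.mem_bot, inv_mul_eq_one] at h1
      subst h1
      exact Prod.ext rfl (Subtype.ext (mul_left_cancel e1))
    have := Nat.card_le_card_of_injective _ hinj
    rw [Nat.card_prod, hcN, mul_comm (dOf F _)] at this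
    exact Nat.le_of_mul_le_mul_left this Nat.card_pos
  refine le_antisymm hle ?_
  set iN : N := ⟨i, hi⟩
  have hp : IsPGroup 2 (Subgroup.zpowers iN) := IsPGroup.of_card (n := 1) (by
    rw [Nat.card_zpowers, pow_one]
    exact orderOf_eq_prime (Subtype.ext (by rw [sq]; exact i2)) (fun e => i1 (congrArg Subtype.val e)))
  obtain ⟨P, hP⟩ := hp.exists_le_sylow
  have hPd : Nat.card P = dOf F (Nat.card U) := by
    rw [P.card_eq_multiplicity, hcN, Nat.factorization_mul (by unfold dOf; split <;> norm_num) Nat.card_pos.ne',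
      Finsupp.add_apply, Nat.factorization_eq_zero_of_not_dvd ((Ks_facts h).1 _ hcard).2, add_zero]
    unfold dOf
    split
    · rw [Nat.prime_two.factorization_self, pow_one]
    · rw [show (4 : ℕ) = 2 ^ 2 by norm_num, Nat.prime_two.factorization_pow, Finsupp.single_eq_same]
  have hPc : ∀ x y : P, x * y = y * x := by
    rcases (show dOf F (Nat.card U) = 2 ∨ dOf F (Nat.card U) = 4 by unfold dOf; split <;> simp) with e | e
    · haveI : IsCyclic P := isCyclic_of_prime_card (p := 2) (hPd.trans e)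
      letI := IsCyclic.commGroup (α := P)
      exact fun x y => mul_comm x y
    · haveI := IsPGroup.isMulCommutative_of_card_eq_prime_sq (p := 2) (G := P) (by rw [hPd, e]; norm_num)
      exact fun x y => mul_comm' x y
  rw [← hPd]
  refine Nat.card_le_card_of_injective (fun x : P => (⟨x.1.1, x.1.2, ?_⟩ : M)) fun x y e =>
    Subtype.ext (Subtype.ext (congrArg (fun z : M => z.1) e))
  obtain ⟨z, hz⟩ := borel_invol h (hib : act h i (oinf m) = oinf m) i2
  have hz0 : z ≠ 0 := fun e => i1 (by rw [hz, e, gU_zero])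
  have hcomm : (x.1.1 : G F m) ∈ Subgroup.centralizer ({i} : Set (G F m)) :=
    Subgroup.mem_centralizer_singleton_iff.mpr
      (congrArg (fun w : P => (w.1.1 : G F m)) (hPc x ⟨iN, hP (Subgroup.mem_zpowers iN)⟩))
  rw [hz, cent_invol h hz0] at hcomm
  exact Usub_le_borel h hcomm

end CfsgLib.Sz
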