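import Cfsg.Agent.Sz.Normalizers
set_option autoImplicit false

/-!
Solubilizers of elements of Suzuki groups without subfield subgroups.
-/

namespace CfsgLib.Sz

open Finset

variable {F : Type*} [Field F] [Fintype F] {m : ℕ} (h : Hyp F m)

/-- Elements generating a solvable subgroup with the given one. -/
def InSol (x y : G F m) : Prop := Group.IsSolvable ↥(Subgroup.closure ({x, y} : Set (G F m)))

omit [Fintype F] in
theorem inSol_conj_iff (k x y : G F m) : InSol (k * x * k⁻¹) (k * y * k⁻¹) ↔ InSol x y := by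
  unfold InSol
  have e : Subgroup.closure ({k * x * k⁻¹, k * y * k⁻¹} : Set (G F m)) =
      (Subgroup.closure ({x, y} : Set (G F m))).map (MulAut.conj k).toMonoidHom := by
    rw [MonoidHom.map_closure, Set.image_pair]
    simp [MulAut.conj_apply]
  rw [e]
  let f := (MulAut.conj k).subgroupMap (Subgroup.closure ({x, y} : Set (G F m)))
  exact ⟨fun hs => @Group.isSolvable_of_isSolvable_injective _ _ _ _ f.toMonoidHom f.injective hs,
    fun hs => @Group.isSolvable_of_isSolvable_injective _ _ _ _ f.symm.toMonoidHom f.symm.injective hs⟩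

omit [Fintype F] in
theorem card_sol_conj (k x : G F m) : Nat.card {y // InSol (k * x * k⁻¹) y} = Nat.card {y // InSol x y} := by
  refine (Nat.card_congr ((MulAut.conj k).toEquiv.subtypeEquiv fun y => ?_)).symm
  show InSol x y ↔ InSol (k * x * k⁻¹) (k * y * k⁻¹)
  exact (inSol_conj_iff k x y).symm

include h

section Minimal

variable (hp : (2 * m + 1).Prime)
include hp

theorem minimal {M : Subgroup (G F m)} (hM : ¬ Group.IsSolvable M) : M = ⊤ := by
  by_contra ht
  obtain ⟨k, hk, hkm, hd, -⟩ := proper_subfield h M hM ht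
  rcases hp.eq_one_or_self_of_dvd _ hd with e | e <;> omega

theorem normalizer_solvable {U : Subgroup (G F m)} (hU : IsPart (Ks m) U) :
    Group.IsSolvable (Subgroup.normalizer (U : Set (G F m))) := by
  by_contra hns
  have htop := minimal h hp hns
  haveI : U.Normal := Subgroup.normalizer_eq_top_iff.mp htop
  haveI := simple h
  rcases IsSimpleGroup.eq_bot_or_eq_top_of_normal U inferInstance with e | e
  · rcases hU with ⟨P, hP⟩ | ⟨-, hc⟩
    · obtain ⟨k, hk⟩ := exists_conj_sylow h P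
      have h1 : Nat.card U = Fintype.card F ^ 2 := by
        rw [hP, hk, Subgroup.card_map_of_injective (MulEquiv.injective _), card_Usub]
      rw [e, Subgroup.card_bot] at h1
      have := h.q_ge
      nlinarith
    · rw [e, Subgroup.card_bot] at hc
      exact absurd ((Ks_facts h).1 _ hc).1 (by norm_num)
  · apply not_solvable h
    have hs : Group.IsSolvable U := by
      rcases hU with ⟨P, rfl⟩ | ⟨hc, -⟩
      · haveI : Fact (Nat.Prime 2) := ⟨Nat.prime_two⟩
        haveI := P.isPGroup'.isNilpotent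
        infer_instance
      · haveI := hc
        letI := IsCyclic.commGroup (α := U)
        exact Group.isSolvable_of_comm fun a b => mul_comm a b
    subst e
    haveI := hs
    exact Group.isSolvable_of_isSolvable_injective (f := (Subgroup.topEquiv (G := G F m)).symm.toMonoidHom)
      (MulEquiv.injective _)

theorem inSol_iff (x y : G F m) : InSol x y ↔
    ∃ U : Subgroup (G F m), IsPart (Ks m) U ∧ x ∈ Subgroup.normalizer (U : Set (G F m)) ∧
      y ∈ Subgroup.normalizer (U : Set (G F m)) := by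
  constructor
  · intro hs
    obtain ⟨U, hU, hle⟩ := (trich h).le_normalizer_part (Ks_facts h).1 (Ks_facts h).2 _ hs
    exact ⟨U, hU, hle (Subgroup.subset_closure (Set.mem_insert _ _)),
      hle (Subgroup.subset_closure (Set.mem_insert_of_mem _ rfl))⟩
  · rintro ⟨U, hU, hx, hy⟩
    haveI := normalizer_solvable h hp hU
    refine Group.isSolvable_of_isSolvable_injective (Subgroup.inclusion_injective
      ((Subgroup.closure_le _).mpr ?_ : _ ≤ Subgroup.normalizer (U : Set (G F m))))
    exact Set.insert_subset hx (Set.singleton_subset_iff.mpr hy)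

omit hp in
theorem sylow_normalizer (P : Sylow 2 (G F m)) : ∃ k : G F m, ∀ y,
    y ∈ Subgroup.normalizer ((P : Subgroup (G F m)) : Set (G F m)) ↔ act h y (act h k (oinf m)) = act h k (oinf m) := by
  obtain ⟨k, hk⟩ := exists_conj_sylow h P
  refine ⟨k, fun y => ?_⟩
  rw [hk, part_conj_normalizer h, normalizer_Usub, Subgroup.mem_map_equiv]
  show act h (k⁻¹ * y * k) (oinf m) = oinf m ↔ _
  refine ⟨fun e => ?_, fun e => conj_fix h rfl e⟩
  have := congrArg (act h k) e
  rwa [act_mul, act_mul, ← act_mul h k k⁻¹, mul_inv_cancel, act_one] at this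

omit hp in
theorem exists_part_point (p : Ov F m) : ∃ U : Subgroup (G F m), IsPart (Ks m) U ∧
    ∀ y, y ∈ Subgroup.normalizer (U : Set (G F m)) ↔ act h y p = p := by
  obtain ⟨k, rfl⟩ := exists_move h p
  refine ⟨(k • sylU h : Sylow 2 (G F m)), Or.inl ⟨_, rfl⟩, fun y => ?_⟩
  show y ∈ Subgroup.normalizer (((Usub h).map (MulAut.conj k).toMonoidHom : Subgroup (G F m)) : Set (G F m)) ↔ _
  rw [part_conj_normalizer h, normalizer_Usub, Subgroup.mem_map_equiv]
  show act h (k⁻¹ * y * k) (oinf m) = oinf m ↔ _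
  refine ⟨fun e => ?_, fun e => conj_fix h rfl e⟩
  have := congrArg (act h k) e
  rwa [act_mul, act_mul, ← act_mul h k k⁻¹, mul_inv_cancel, act_one] at this

theorem card_sol_tor {u : G F m} {x : G F m} (hu : Tor u) (hx : x ∈ tz u) (hx1 : x ≠ 1) :
    Nat.card {y // InSol x y} = 4 * Nat.card (tz u) := by
  have hK : Nat.card (tz u) ∈ Ks m := by
    rcases ((tori h).1 u hu).1 with e | e <;> rw [e, h.hF] <;> simp [Ks]
  have hcy := (tz_facts h hu).1
  rw [← ((tori h).1 u hu).2]
  refine Nat.card_congr (Equiv.subtypeEquivRight fun y => ?_)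
  rw [inSol_iff h hp]
  refine ⟨?_, fun hy => ⟨tz u, Or.inr ⟨hcy, hK⟩, Subgroup.le_normalizer hx, hy⟩⟩
  rintro ⟨U, hU, hxU, hyU⟩
  rcases hU with ⟨P, rfl⟩ | ⟨hc, hcard⟩
  · obtain ⟨k, hk⟩ := sylow_normalizer h P
    exact absurd ((hk x).mp hxU) (tor_fpf h hu hx hx1 _)
  · have hord : Nat.Coprime (orderOf x) 4 := by
      have h1 := (Subgroup.orderOf_dvd_natCard (tz u) hx).trans (tz_facts h hu).2.1
      show Nat.Coprime (orderOf x) (2 ^ 2)
      exact Nat.Coprime.pow_right _ ((Nat.Prime.coprime_iff_not_dvd Nat.prime_two).mpr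
        fun h2 => N_odd h (h2.trans h1)).symm
    have hxU' := odd_mem h hc hcard hxU hord
    rw [part_unique h (Or.inr ⟨hc, hcard⟩) (Or.inr ⟨hcy, hK⟩) hxU' hx hx1] at hyU
    exact hyU

theorem card_sol_diag {s : Fˣ} (hs : s ≠ 1) :
    Nat.card {y // InSol (gD h s) y} = 2 * Fintype.card F ^ 2 * (Fintype.card F - 1) := by
  classical
  letI : Fintype (G F m) := Fintype.ofFinite _
  set D := (gDhom h).range with hD
  haveI : IsCyclic D := isCyclic_of_surjective (gDhom h).rangeRestrict (gDhom h).rangeRestrict_surjective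
  have hDK : Nat.card D ∈ Ks m := by rw [card_range_gD h, h.hF]; simp [Ks]
  have hfix : ∀ p, act h (gD h s) p = p → p = oinf m ∨ p = opt m 0 0 := by
    intro p hp'
    rcases Ov.cases' m p with rfl | ⟨x, y, rfl⟩
    · exact Or.inl rfl
    · refine Or.inr ?_
      by_cases h0 : x = 0 ∧ y = 0
      · rw [h0.1, h0.2]
      · exact absurd (gD_fix_imp h h0 hp') hs
  have hD00 : ∀ t, act h (gD h t) (opt m 0 0) = opt m 0 0 := fun t => by rw [gD_opt, mul_zero, mul_zero]
  have hiff : ∀ y, InSol (gD h s) y ↔ (act h y (oinf m) = oinf m ∨ act h y (opt m 0 0) = opt m 0 0) ∨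
      y ∈ Subgroup.normalizer (D : Set (G F m)) := by
    intro y
    rw [inSol_iff h hp]
    constructor
    · rintro ⟨U, hU, hxU, hyU⟩
      rcases hU with ⟨P, rfl⟩ | ⟨hc, hcard⟩
      · obtain ⟨k, hk⟩ := sylow_normalizer h P
        left
        rcases hfix _ ((hk _).mp hxU) with e | e
        · exact Or.inl (e ▸ (hk y).mp hyU)
        · exact Or.inr (e ▸ (hk y).mp hyU)
      · right
        have hord : Nat.Coprime (orderOf (gD h s)) 4 := by
          have h1 : orderOf (gD h s) ∣ Fintype.card F - 1 := by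
            rw [← card_range_gD h]; exact Subgroup.orderOf_dvd_natCard _ ⟨s, rfl⟩
          show Nat.Coprime (orderOf (gD h s)) (2 ^ 2)
          exact Nat.Coprime.pow_right _ ((Nat.Prime.coprime_iff_not_dvd Nat.prime_two).mpr
            fun h2 => odd_part h (Dvd.dvd.mul_left (h2.trans h1) _)).symm
        have hxU' := odd_mem h hc hcard hxU hord
        have hs1 : gD h s ≠ 1 := fun e => hs (gD_injective h (e.trans (gD_one h).symm))
        rw [part_unique h (Or.inr ⟨hc, hcard⟩) (Or.inr ⟨inferInstance, hDK⟩) hxU' (show gD h s ∈ D from ⟨s, rfl⟩) hs1] at hyU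
        exact hyU
    · rintro ((e | e) | e)
      · obtain ⟨U, hU, hN⟩ := exists_part_point h (oinf (F := F) m)
        exact ⟨U, hU, (hN _).mpr (gD_oinf h s), (hN _).mpr e⟩
      · obtain ⟨U, hU, hN⟩ := exists_part_point h (opt m (0 : F) 0)
        exact ⟨U, hU, (hN _).mpr (hD00 s), (hN _).mpr e⟩
      · exact ⟨D, Or.inr ⟨inferInstance, hDK⟩, Subgroup.le_normalizer ⟨s, rfl⟩, e⟩
  set A : Finset (G F m) := Finset.univ.filter fun y => act h y (oinf m) = oinf m with hA
  set B : Finset (G F m) := Finset.univ.filter fun y => act h y (opt m 0 0) = opt m 0 0 with hB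
  set N : Finset (G F m) := Finset.univ.filter fun y => y ∈ Subgroup.normalizer (D : Set (G F m)) with hN
  have hAc : A.card = Fintype.card F ^ 2 * (Fintype.card F - 1) := by
    rw [← card_borel h, ← Fintype.card_subtype, ← Nat.card_eq_fintype_card]
    exact Nat.card_congr (Equiv.subtypeEquivRight fun y => Iff.rfl)
  have hBc : B.card = Fintype.card F ^ 2 * (Fintype.card F - 1) := by
    rw [← card_borel h, ← Fintype.card_subtype, ← Nat.card_eq_fintype_card]
    refine Nat.card_congr ((MulAut.conj (gW h)).toEquiv.subtypeEquiv fun y => ?_)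
    show act h y (opt m 0 0) = opt m 0 0 ↔ act h (gW h * y * (gW h)⁻¹) (oinf m) = oinf m
    rw [gW_inv, act_mul, act_mul, gW_oinf]
    refine ⟨fun e => by rw [e, gW_opt_zero], fun e => ?_⟩
    have := congrArg (act h (gW h)) e
    rwa [← act_mul, gW_sq, act_one, gW_oinf] at this
  have hABc : (A ∩ B).card = Fintype.card F - 1 := by
    rw [← card_range_gD h, hA, hB, ← Finset.filter_and, ← Fintype.card_subtype, ← Nat.card_eq_fintype_card]
    refine Nat.card_congr (Equiv.subtypeEquivRight fun y => ⟨fun ⟨e1, e2⟩ => ?_, ?_⟩)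
    · obtain ⟨t, rfl⟩ := eq_gD_of_fix_two h e1 e2
      exact ⟨t, rfl⟩
    · rintro ⟨t, rfl⟩
      exact ⟨gD_oinf h t, hD00 t⟩
  have hNc : N.card = 2 * (Fintype.card F - 1) := by
    rw [← card_dih h, ← Fintype.card_subtype, ← Nat.card_eq_fintype_card]
  have hNi : (A ∪ B) ∩ N = A ∩ B := by
    ext y
    simp only [hA, hB, hN, Finset.mem_inter, Finset.mem_union, Finset.mem_filter, Finset.mem_univ, true_and]
    constructor
    · rintro ⟨hy, hyN⟩
      obtain ⟨⟨t, b⟩, hb⟩ := (dihEquiv h).surjective ⟨y, hyN⟩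
      have e := congrArg Subtype.val hb
      cases b
      · have e' : gD h t = y := e
        rw [← e']; exact ⟨gD_oinf h t, hD00 t⟩
      · have e' : gD h t * gW h = y := e
        rw [← e', act_mul, act_mul, gW_oinf, gW_opt_zero, gD_oinf, hD00] at hy
        rcases hy with hy | hy
        · exact absurd hy (opt_ne_oinf m _ _)
        · exact absurd hy.symm (opt_ne_oinf m _ _)
    · rintro ⟨e1, e2⟩
      obtain ⟨t, rfl⟩ := eq_gD_of_fix_two h e1 e2
      exact ⟨Or.inl e1, Subgroup.le_normalizer ⟨t, rfl⟩⟩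
  have htot : Nat.card {y // InSol (gD h s) y} = ((A ∪ B) ∪ N).card := by
    rw [Nat.card_eq_fintype_card, Fintype.card_subtype]
    congr 1
    ext y
    simp [hA, hB, hN, hiff, or_assoc]
  have h1 := Finset.card_union_add_card_inter (A ∪ B) N
  have h2 := Finset.card_union_add_card_inter A B
  rw [hNi, hABc, hNc] at h1
  rw [hAc, hBc, hABc] at h2
  rw [htot, mul_assoc]
  omega

end Minimal

/-- The cyclic parts normalised by an element. -/
noncomputable def partsThrough (k : ℕ) (x : G F m) : Finset (Subgroup (G F m)) :=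
  letI : Fintype (Subgroup (G F m)) := Fintype.ofFinite _
  letI := Classical.decPred fun U : Subgroup (G F m) =>
    IsCyclic U ∧ Nat.card U = k ∧ x ∈ Subgroup.normalizer (U : Set (G F m))
  Finset.univ.filter fun U => IsCyclic U ∧ Nat.card U = k ∧ x ∈ Subgroup.normalizer (U : Set (G F m))

theorem mem_partsThrough {k : ℕ} {x : G F m} {U : Subgroup (G F m)} :
    U ∈ partsThrough k x ↔ IsCyclic U ∧ Nat.card U = k ∧ x ∈ Subgroup.normalizer (U : Set (G F m)) := by
  classical
  simp [partsThrough]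

theorem partsThrough_inv (k : ℕ) (x : G F m) : partsThrough k x⁻¹ = partsThrough k x := by
  ext U
  rw [mem_partsThrough h, mem_partsThrough h, inv_mem_iff]

theorem partsThrough_conj (k : ℕ) (g x : G F m) :
    (partsThrough k (g * x * g⁻¹)).card = (partsThrough k x).card := by
  classical
  symm
  refine Finset.card_bij (fun U _ => U.map (MulAut.conj g).toMonoidHom) ?_ ?_ ?_
  · intro U hU
    obtain ⟨hc, hk, hx⟩ := (mem_partsThrough h).mp hU
    haveI := hc
    refine (mem_partsThrough h).mpr ⟨isCyclic_of_surjective ((MulAut.conj g).subgroupMap U) (MulEquiv.surjective _),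
      by rw [Subgroup.card_map_of_injective (MulEquiv.injective _), hk], ?_⟩
    rw [part_conj_normalizer h]
    exact ⟨x, hx, rfl⟩
  · intro U _ V _ e
    exact Subgroup.map_injective (f := (MulAut.conj g).toMonoidHom) (MulEquiv.injective _) e
  · intro V hV
    obtain ⟨hc, hk, hx⟩ := (mem_partsThrough h).mp hV
    haveI := hc
    refine ⟨V.map (MulAut.conj g⁻¹).toMonoidHom, (mem_partsThrough h).mpr
      ⟨isCyclic_of_surjective ((MulAut.conj g⁻¹).subgroupMap V) (MulEquiv.surjective _),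
        by rw [Subgroup.card_map_of_injective (MulEquiv.injective _), hk], ?_⟩, ?_⟩
    · rw [part_conj_normalizer h]
      exact ⟨g * x * g⁻¹, hx, by show g⁻¹ * (g * x * g⁻¹) * g⁻¹⁻¹ = x; group⟩
    · rw [Subgroup.map_map]
      conv_rhs => rw [← Subgroup.map_id V]
      congr 1
      ext y
      simp [MulAut.conj_apply, mul_assoc]

theorem parts_conjugate {U V : Subgroup (G F m)} (hU : IsCyclic U) (hV : IsCyclic V) (hUK : Nat.card U ∈ Ks m)
    (hUV : Nat.card V = Nat.card U) : ∃ g : G F m, V = U.map (MulAut.conj g).toMonoidHom := by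
  obtain ⟨r, hr, hd⟩ := Nat.exists_prime_and_dvd (show Nat.card U ≠ 1 from ((Ks_facts h).1 _ hUK).1.ne')
  haveI : Fact r.Prime := ⟨hr⟩
  obtain ⟨⟨u, hu⟩, huo⟩ := exists_prime_orderOf_dvd_card' (G := U) r hd
  obtain ⟨⟨v, hv⟩, hvo⟩ := exists_prime_orderOf_dvd_card' (G := V) r (hUV ▸ hd)
  rw [← Subgroup.orderOf_coe] at huo hvo
  simp only at huo hvo
  have hu1 : u ≠ 1 := fun e => hr.ne_one (by rw [← huo, e, orderOf_one])
  have hv1 : v ≠ 1 := fun e => hr.ne_one (by rw [← hvo, e, orderOf_one])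
  have hp : ∀ w : G F m, orderOf w = r → IsPGroup r (Subgroup.zpowers w) := fun w hw =>
    IsPGroup.of_card (n := 1) (by rw [Nat.card_zpowers, hw, pow_one])
  obtain ⟨P, hP⟩ := (hp u huo).exists_le_sylow
  obtain ⟨Q, hQ⟩ := (hp v hvo).exists_le_sylow
  have hr2 : r ≠ 2 := fun e => ((Ks_facts h).1 _ hUK).2 (e ▸ hd)
  have hVK : Nat.card V ∈ Ks m := hUV ▸ hUK
  have hle : ∀ (W : Subgroup (G F m)) (R : Sylow r (G F m)) (w : G F m), IsCyclic W → Nat.card W ∈ Ks m → w ∈ W →
      w ≠ 1 → w ∈ (R : Subgroup (G F m)) → (R : Subgroup (G F m)) ≤ W := by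
    intro W R w hW hWK hwW hw1 hwR y hy
    haveI := (trich h).sylow_cyclic hr2 R
    letI := IsCyclic.commGroup (α := (R : Subgroup (G F m)))
    exact cent_eq h hW hWK hwW hw1 (congrArg Subtype.val (mul_comm (⟨y, hy⟩ : (R : Subgroup (G F m))) ⟨w, hwR⟩))
  have hPU := hle U P u hU hUK hu hu1 (hP (Subgroup.mem_zpowers u))
  have hQV := hle V Q v hV hVK hv hv1 (hQ (Subgroup.mem_zpowers v))
  obtain ⟨g, rfl⟩ := MulAction.exists_smul_eq (G F m) P Q
  refine ⟨g, ?_⟩
  obtain ⟨w, hwP, hwv⟩ := hQ (Subgroup.mem_zpowers v)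
  exact part_unique h (Or.inr ⟨hV, hVK⟩) (isPart_conj (Or.inr ⟨hU, hUK⟩) g) hv
    ⟨w, hPU hwP, hwv⟩ hv1

theorem exists_part_of_card {k : ℕ} (hk : k ∈ Ks m) : ∃ U : Subgroup (G F m), IsCyclic U ∧ Nat.card U = k := by
  have hk' : k = Fintype.card F - 1 ∨ k = Fintype.card F + 2 ^ (m + 1) + 1 ∨ k = Fintype.card F - 2 ^ (m + 1) + 1 := by
    rw [h.hF]; simpa [Ks] using hk
  rcases hk' with e | e
  · exact ⟨(gDhom h).range, isCyclic_of_surjective (gDhom h).rangeRestrict (gDhom h).rangeRestrict_surjective,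
      by rw [card_range_gD h, e]⟩
  · obtain ⟨u, hu, huk⟩ := (tori h).2 k e
    exact ⟨tz u, (tz_facts h hu).1, huk⟩

theorem card_parts {k : ℕ} (hk : k ∈ Ks m) :
    (partsThrough k (1 : G F m)).card * (dOf F k * k) = Nat.card (G F m) := by
  classical
  letI : Fintype (G F m) := Fintype.ofFinite _
  obtain ⟨U, hU, hUk⟩ := exists_part_of_card h hk
  set N := Subgroup.normalizer (U : Set (G F m)) with hN
  have hNc : Nat.card N = dOf F k * k := by rw [hN, card_normalizer_part h hU (hUk ▸ hk), hUk]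
  rw [← hNc, ← Subgroup.index_mul_card N]
  congr 1
  rw [Subgroup.index_eq_card, ← Fintype.card_coe, ← Nat.card_eq_fintype_card]
  symm
  let f : G F m ⧸ N → ↥(partsThrough k (1 : G F m)) := Quotient.lift (fun g =>
    (⟨U.map (MulAut.conj g).toMonoidHom, (mem_partsThrough h).mpr
      ⟨by haveI := hU; exact isCyclic_of_surjective ((MulAut.conj g).subgroupMap U) (MulEquiv.surjective _),
        by rw [Subgroup.card_map_of_injective (MulEquiv.injective _), hUk], one_mem _⟩⟩ : ↥(partsThrough k (1 : G F m))))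
    (fun a b hab => by
      refine Subtype.ext ?_
      have hn : a⁻¹ * b ∈ N := QuotientGroup.leftRel_apply.mp hab
      have hfix : U.map (MulAut.conj (a⁻¹ * b)).toMonoidHom = U := by
        ext y
        rw [Subgroup.mem_map_equiv, MulAut.conj_symm_apply]
        exact ((Subgroup.mem_normalizer_iff'' ).mp hn y).symm
      show U.map (MulAut.conj a).toMonoidHom = U.map (MulAut.conj b).toMonoidHom
      conv_lhs => rw [← hfix, Subgroup.map_map]
      congr 1
      ext y
      simp [MulAut.conj_apply, mul_assoc])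
  refine Nat.card_congr (Equiv.ofBijective f ⟨?_, ?_⟩)
  · intro a b
    induction a using QuotientGroup.induction_on with
    | H a =>
      induction b using QuotientGroup.induction_on with
      | H b =>
        intro e
        have e' : U.map (MulAut.conj a).toMonoidHom = U.map (MulAut.conj b).toMonoidHom := congrArg Subtype.val e
        refine QuotientGroup.eq.mpr (Subgroup.mem_normalizer_fintype fun y hy => ?_)
        have h1 : (MulAut.conj b).toMonoidHom y ∈ U.map (MulAut.conj a).toMonoidHom := e' ▸ ⟨y, hy, rfl⟩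
        obtain ⟨w, hw, hwy⟩ := h1
        have hwy' : a * w * a⁻¹ = b * y * b⁻¹ := hwy
        rw [show a⁻¹ * b * y * (a⁻¹ * b)⁻¹ = w by
          calc a⁻¹ * b * y * (a⁻¹ * b)⁻¹ = a⁻¹ * (b * y * b⁻¹) * a := by group
            _ = w := by rw [← hwy']; group]
        exact hw
  · rintro ⟨V, hV⟩
    obtain ⟨hVc, hVk, -⟩ := (mem_partsThrough h).mp hV
    obtain ⟨g, rfl⟩ := parts_conjugate h hU hVc (hUk ▸ hk) (hVk.trans hUk.symm)
    exact ⟨QuotientGroup.mk g, rfl⟩

/-- Double counting of incidences between a class of elements and the normalisers of the parts. -/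
theorem double_count [DecidableEq (G F m)] {k c : ℕ} (hk : k ∈ Ks m) (X : Finset (G F m)) {x0 : G F m}
    (hconst : ∀ x ∈ X, (partsThrough k x).card = (partsThrough k x0).card)
    (hc : ∀ U : Subgroup (G F m), IsCyclic U → Nat.card U = k →
      Nat.card {x // x ∈ X ∧ x ∈ Subgroup.normalizer (U : Set (G F m))} = c) :
    (partsThrough k x0).card * X.card * (dOf F k * k) = Nat.card (G F m) * c := by
  classical
  letI : Fintype (Subgroup (G F m)) := Fintype.ofFinite _
  rw [← card_parts h hk, mul_right_comm _ (dOf F k * k) c]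
  congr 1
  set P := partsThrough k (1 : G F m)
  have hdc := Finset.sum_card_bipartiteAbove_eq_sum_card_bipartiteBelow (s := X) (t := P)
    (r := fun (x : G F m) (U : Subgroup (G F m)) => x ∈ Subgroup.normalizer (U : Set (G F m)))
  have h1 : ∀ x ∈ X, (P.bipartiteAbove (fun (x : G F m) (U : Subgroup (G F m)) => x ∈ Subgroup.normalizer (U : Set (G F m))) x).card =
      (partsThrough k x0).card := by
    intro x hx
    rw [← hconst x hx]
    congr 1
    ext U
    simp only [Finset.bipartiteAbove, Finset.mem_filter, mem_partsThrough h, P]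
    exact ⟨fun ⟨⟨a, b, _⟩, d⟩ => ⟨a, b, d⟩, fun ⟨a, b, d⟩ => ⟨⟨a, b, one_mem _⟩, d⟩⟩
  have h2 : ∀ U ∈ P, (X.bipartiteBelow (fun (x : G F m) (U : Subgroup (G F m)) => x ∈ Subgroup.normalizer (U : Set (G F m))) U).card = c := by
    intro U hU
    obtain ⟨hUc, hUk, -⟩ := (mem_partsThrough h).mp hU
    rw [← hc U hUc hUk, ← Fintype.card_coe, ← Nat.card_eq_fintype_card]
    exact Nat.card_congr (Equiv.subtypeEquivRight fun x => by simp [Finset.bipartiteBelow])
  rw [Finset.sum_congr rfl h1, Finset.sum_congr rfl h2, Finset.sum_const, Finset.sum_const, smul_eq_mul,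
    smul_eq_mul] at hdc
  rw [mul_comm (partsThrough k x0).card, hdc]

theorem card_fixed_class (X : Finset (G F m)) (hinv : ∀ g x, x ∈ X → g * x * g⁻¹ ∈ X)
    (huniq : ∀ x ∈ X, ∃ p, act h x p = p ∧ ∀ p', act h x p' = p' → p' = p) :
    X.card = (Fintype.card F ^ 2 + 1) * Nat.card {x // x ∈ X ∧ x ∈ borel h} := by
  classical
  choose k hk using exists_move h
  have hmove : ∀ (p : Ov F m) (x : G F m), x ∈ borel h → act h (k p * x * (k p)⁻¹) p = p := fun p x hx => by
    have := conj_move h (g := k p) (hx : act h x (oinf m) = oinf m)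
    rwa [hk p] at this
  rw [← card_ov (F := F) m, ← Nat.card_prod, ← Fintype.card_coe, ← Nat.card_eq_fintype_card]
  refine (Nat.card_congr (Equiv.ofBijective (fun z : Ov F m × {x // x ∈ X ∧ x ∈ borel h} =>
    (⟨k z.1 * z.2.1 * (k z.1)⁻¹, hinv _ _ z.2.2.1⟩ : ↥X)) ⟨?_, ?_⟩)).symm
  · rintro ⟨p, x, hxX, hxb⟩ ⟨p', x', hxX', hxb'⟩ e
    have e' : k p * x * (k p)⁻¹ = k p' * x' * (k p')⁻¹ := congrArg Subtype.val e
    obtain ⟨r, hr, hru⟩ := huniq _ (hinv (k p) x hxX)
    have hpp : p = p' := (hru p (hmove p x hxb)).trans (hru p' (e' ▸ hmove p' x' hxb')).symm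
    subst hpp
    have := mul_left_cancel (mul_right_cancel e')
    subst this
    rfl
  · rintro ⟨x, hx⟩
    obtain ⟨p, hp, -⟩ := huniq x hx
    refine ⟨(p, ⟨(k p)⁻¹ * x * k p, ?_, conj_fix h (hk p) hp⟩), Subtype.ext ?_⟩
    · simpa using hinv (k p)⁻¹ x hx
    · show k p * ((k p)⁻¹ * x * k p) * (k p)⁻¹ = x
      group

theorem two_elem_unique_fix {x : G F m} {n : ℕ} (hi2 : x ^ n * x ^ n = 1) (hi1 : x ^ n ≠ 1) :
    ∃ p, act h x p = p ∧ ∀ p', act h x p' = p' → p' = p := by
  obtain ⟨p, hp⟩ := involution_fix h hi2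
  have hxp : act h x p = p := by
    refine invol_fix_unique h hi2 hi1 ?_ hp
    rw [← act_mul, ← (Commute.self_pow x n).eq, act_mul, hp]
  refine ⟨p, hxp, fun p' hp' => invol_fix_unique h hi2 hi1 ?_ hp⟩
  clear hi2 hi1 hp
  induction n with
  | zero => rw [pow_zero, act_one]
  | succ j ih => rw [pow_succ, act_mul, hp', ih]

theorem conj_invol_iff {g x : G F m} :
    (g * x * g⁻¹ * (g * x * g⁻¹) = 1 ↔ x * x = 1) ∧ (g * x * g⁻¹ = 1 ↔ x = 1) := by
  constructor
  · rw [show g * x * g⁻¹ * (g * x * g⁻¹) = g * (x * x) * g⁻¹ by group, conj_eq_one_iff]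
  · exact conj_eq_one_iff

theorem invol_parts_count {k : ℕ} (hk : k ∈ Ks m) {x0 : G F m} (h2 : x0 * x0 = 1) (h1 : x0 ≠ 1) :
    (partsThrough k x0).card * dOf F k = Fintype.card F ^ 2 := by
  classical
  letI : Fintype (G F m) := Fintype.ofFinite _
  set X : Finset (G F m) := Finset.univ.filter fun x => x * x = 1 ∧ x ≠ 1 with hX
  have hmX : ∀ x, x ∈ X ↔ x * x = 1 ∧ x ≠ 1 := fun x => by simp [hX]
  have hcnt : X.card = (Fintype.card F ^ 2 + 1) * (Fintype.card F - 1) := by
    rw [card_fixed_class h X (fun g x hx => ?_) (fun x hx => ?_),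
      show Fintype.card F - 1 = Nat.card Fˣ by rw [Nat.card_eq_fintype_card, Fintype.card_units]]
    · congr 1
      refine (Nat.card_congr (Equiv.ofBijective (fun z : Fˣ => (⟨gU h 0 (z : F), (hmX _).mpr ⟨?_, ?_⟩, gU_oinf h _ _⟩ :
        {x // x ∈ X ∧ x ∈ borel h})) ⟨?_, ?_⟩)).symm
      · rw [gU_sq, th_zero, zero_mul, gU_zero]
      · exact fun e => z.ne_zero ((gU_eq_one_iff h).mp e).2
      · intro z z' e
        exact Units.ext (gU_injective h (congrArg (fun w => (w : {x // x ∈ X ∧ x ∈ borel h}).1) e)).2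
      · rintro ⟨x, hx, hxb⟩
        obtain ⟨h2', h1'⟩ := (hmX x).mp hx
        obtain ⟨z, rfl⟩ := borel_invol h hxb h2'
        exact ⟨Units.mk0 z fun e => h1' (by rw [e, gU_zero]), rfl⟩
    · obtain ⟨a, b⟩ := (hmX x).mp hx
      exact (hmX _).mpr ⟨(conj_invol_iff h).1.mpr a, fun e => b ((conj_invol_iff h).2.mp e)⟩
    · obtain ⟨a, b⟩ := (hmX x).mp hx
      exact two_elem_unique_fix h (n := 1) (by rwa [pow_one]) (by rwa [pow_one])
  have hd := double_count h hk X (x0 := x0) (c := k) (fun x hx => by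
    obtain ⟨g, rfl⟩ := invol_conj h h2 h1 ((hmX x).mp hx).1 ((hmX x).mp hx).2
    exact partsThrough_conj h k g x0) (fun U hU hUk => by
    obtain ⟨i, hiN, i2, i1⟩ := exists_invol_normalizer h hU (hUk ▸ hk)
    rw [← hUk]
    refine (Nat.card_congr (Equiv.ofBijective (fun u : U => (⟨i * u.1,
      (hmX _).mpr (invol_mem_mul h hU (hUk ▸ hk) i2 i1 hiN u.2),
      mul_mem hiN (Subgroup.le_normalizer u.2)⟩ : {x // x ∈ X ∧ x ∈ Subgroup.normalizer (U : Set (G F m))})) ⟨?_, ?_⟩)).symm
    · intro u v e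
      exact Subtype.ext (mul_left_cancel (congrArg (fun w => (w :
        {x // x ∈ X ∧ x ∈ Subgroup.normalizer (U : Set (G F m))}).1) e))
    · rintro ⟨x, hx, hxN⟩
      refine ⟨⟨i * x, invol_mul_mem h hU (hUk ▸ hk) i2 i1 hiN ((hmX x).mp hx).1 ((hmX x).mp hx).2 hxN⟩, Subtype.ext ?_⟩
      show i * (i * x) = x
      rw [← mul_assoc, i2, one_mul])
  rw [hcnt, card_G h] at hd
  have hk0 : 0 < k := by have := ((Ks_facts h).1 k hk).1; omega
  have hq := h.q_ge
  refine Nat.eq_of_mul_eq_mul_right (show 0 < (Fintype.card F ^ 2 + 1) * (Fintype.card F - 1) * k from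
    Nat.mul_pos (Nat.mul_pos (by positivity) (by omega)) hk0) ?_
  calc _ = (partsThrough k x0).card * ((Fintype.card F ^ 2 + 1) * (Fintype.card F - 1)) * (dOf F k * k) := by ring
    _ = _ := hd
    _ = _ := by ring

theorem L_surj_half (b : F) : ∃ c : F, b = th m c + c ∨ b = th m c + c + 1 := by
  classical
  set I : Finset F := Finset.univ.image fun c => th m c + c with hI
  have hI2 : Fintype.card F ≤ 2 * I.card := by
    refine Finset.card_le_mul_card_image (Finset.univ : Finset F) 2 fun v hv => ?_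
    obtain ⟨c, -, rfl⟩ := Finset.mem_image.mp hv
    refine (Finset.card_le_card (t := {c, c + 1}) fun y hy => ?_).trans Finset.card_le_two
    have hy' := (Finset.mem_filter.mp hy).2
    have hfix : th m (c + y) = c + y := by
      rw [h.th_add]; linear_combination hy' + (th m c - y) * h.two
    by_cases h0 : c + y = 0
    · exact Finset.mem_insert.mpr (Or.inl (by linear_combination h0 - c * h.two))
    · by_cases h1 : c + y = 1
      · exact Finset.mem_insert.mpr (Or.inr (Finset.mem_singleton.mpr (by linear_combination h1 - c * h.two)))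
      · exact absurd hfix (th_ne_self h h0 h1)
  have hdis : Disjoint I (I.image fun v => v + 1) := by
    refine Finset.disjoint_left.mpr fun v hv hv' => ?_
    obtain ⟨c, -, hc⟩ := Finset.mem_image.mp hv
    obtain ⟨w, hw, hwv⟩ := Finset.mem_image.mp hv'
    obtain ⟨d, -, hd⟩ := Finset.mem_image.mp hw
    set t := c + d
    have h4 : th m t + t = 1 := by
      rw [h.th_add]; linear_combination hc + hd - hwv + w * h.two
    have h5 := congrArg (th m) h4
    rw [h.th_add, h.th_th, th_one] at h5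
    have h6 : t * (t - 1) = 0 := by linear_combination h5 - h4
    rcases mul_eq_zero.1 h6 with h7 | h7
    · rw [h7, th_zero] at h4
      exact zero_ne_one (α := F) (by linear_combination h4)
    · rw [sub_eq_zero.1 h7, th_one] at h4
      exact one_ne_zero (α := F) (by linear_combination h.two - h4)
  have hall : I ∪ I.image (fun v => v + 1) = Finset.univ := by
    refine Finset.eq_univ_of_card _ (le_antisymm (Finset.card_le_univ _) ?_)
    rw [Finset.card_union_of_disjoint hdis, Finset.card_image_of_injective _ (add_left_injective 1)]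
    omega
  rcases Finset.mem_union.mp (hall ▸ Finset.mem_univ b : b ∈ I ∪ I.image fun v => v + 1) with hb | hb
  · obtain ⟨c, -, hc⟩ := Finset.mem_image.mp hb; exact ⟨c, Or.inl hc.symm⟩
  · obtain ⟨v, hv, hvb⟩ := Finset.mem_image.mp hb
    obtain ⟨c, -, hc⟩ := Finset.mem_image.mp hv
    exact ⟨c, Or.inr (by rw [← hvb, ← hc])⟩

theorem four_form {x : G F m} (h4 : x * x * (x * x) = 1) (h2 : x * x ≠ 1) (hb : x ∈ borel h) :
    ∃ a b, a ≠ 0 ∧ x = gU h a b := by
  obtain ⟨z, hz⟩ := borel_invol h (show act h (x * x) (oinf m) = oinf m from mul_mem hb hb) h4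
  have hz0 : z ≠ 0 := fun e => h2 (by rw [hz, e, gU_zero])
  have hc : x ∈ Subgroup.centralizer ({gU h 0 z} : Set (G F m)) :=
    Subgroup.mem_centralizer_singleton_iff.mpr (by rw [← hz, mul_assoc])
  rw [cent_invol h hz0] at hc
  obtain ⟨a, b, rfl⟩ := hc
  exact ⟨a, b, fun e => h2 (by rw [e, gU_sq, th_zero, zero_mul, gU_zero]), rfl⟩

theorem four_class {x : G F m} (h4 : x * x * (x * x) = 1) (h2 : x * x ≠ 1) :
    ∃ g : G F m, x = g * gU h 1 0 * g⁻¹ ∨ x = g * (gU h 1 0)⁻¹ * g⁻¹ := by
  obtain ⟨p, hp, -⟩ := two_elem_unique_fix h (n := 2) (by rwa [sq]) (by rwa [sq])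
  obtain ⟨k, hk⟩ := exists_move h p
  obtain ⟨a, b, ha, hab⟩ := four_form h (x := k⁻¹ * x * k)
    (by rw [show k⁻¹ * x * k * (k⁻¹ * x * k) * (k⁻¹ * x * k * (k⁻¹ * x * k)) = k⁻¹ * (x * x * (x * x)) * k by group, h4]; group)
    (fun e => h2 (by
      calc x * x = k * (k⁻¹ * x * k * (k⁻¹ * x * k)) * k⁻¹ := by group
        _ = 1 := by rw [e]; group)) (conj_fix h hk hp)
  obtain ⟨s, hs⟩ := th_unit_surj h ha
  set b' := (th m (s : F) * (s : F) ^ 2)⁻¹ * b with hb'
  have hne : th m (s : F) * (s : F) ^ 2 ≠ 0 :=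
    mul_ne_zero (by rw [hs]; exact ha) (pow_ne_zero _ s.ne_zero)
  have e1 : k⁻¹ * x * k = gD h s * gU h 1 b' * (gD h s)⁻¹ := by
    rw [hab, gD_gU, hs, mul_one]
    congr 1
    rw [hb', ← hs, mul_inv_cancel_left₀ hne]
  obtain ⟨c, hc⟩ := L_surj_half h b'
  have hconj : ∀ b0, gU h c 0 * gU h 1 b0 * (gU h c 0)⁻¹ = gU h 1 (b0 + (th m c + c)) := by
    intro b0
    rw [gU_inv, gU_mul, gU_mul]
    congr 1
    · linear_combination c * h.two
    · rw [h.th_add, th_one]; linear_combination (th m c * c) * h.two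
  have hx : x = k * gD h s * gU h 1 b' * (k * gD h s)⁻¹ := by
    calc x = k * (k⁻¹ * x * k) * k⁻¹ := by group
      _ = _ := by rw [e1]; group
  refine ⟨k * gD h s * gU h c 0, ?_⟩
  rcases hc with hc | hc
  · left
    rw [hx, show gU h 1 b' = gU h c 0 * gU h 1 0 * (gU h c 0)⁻¹ by rw [hconj, zero_add, hc]]
    group
  · right
    rw [hx, show gU h 1 b' = gU h c 0 * (gU h 1 0)⁻¹ * (gU h c 0)⁻¹ by
      rw [gU_inv h 1 0, hconj, th_one, hc]; congr 1; ring]
    group

theorem four_parts_count {k : ℕ} (hk : k ∈ Ks m) (hkq : k ≠ Fintype.card F - 1) {x0 : G F m}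
    (h4 : x0 * x0 * (x0 * x0) = 1) (h2 : x0 * x0 ≠ 1) :
    (partsThrough k x0).card * 2 = Fintype.card F := by
  classical
  letI : Fintype (G F m) := Fintype.ofFinite _
  set X : Finset (G F m) := Finset.univ.filter fun x => x * x * (x * x) = 1 ∧ x * x ≠ 1 with hX
  have hmX : ∀ x, x ∈ X ↔ x * x * (x * x) = 1 ∧ x * x ≠ 1 := fun x => by simp [hX]
  have hcnt : X.card = (Fintype.card F ^ 2 + 1) * ((Fintype.card F - 1) * Fintype.card F) := by
    rw [card_fixed_class h X (fun g x hx => ?_) (fun x hx => ?_), show (Fintype.card F - 1) * Fintype.card F = Nat.card (Fˣ × F) by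
        rw [Nat.card_prod, Nat.card_eq_fintype_card, Nat.card_eq_fintype_card, Fintype.card_units]]
    · congr 1
      refine (Nat.card_congr (Equiv.ofBijective (fun z : Fˣ × F => (⟨gU h (z.1 : F) z.2, (hmX _).mpr ⟨?_, ?_⟩,
        gU_oinf h _ _⟩ : {x // x ∈ X ∧ x ∈ borel h})) ⟨?_, ?_⟩)).symm
      · rw [gU_sq, gU_sq, th_zero, zero_mul, gU_zero]
      · rw [gU_sq]
        exact fun e => mul_ne_zero (fun e' => z.1.ne_zero (th_eq_zero e')) z.1.ne_zero ((gU_eq_one_iff h).mp e).2
      · intro z z' e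
        obtain ⟨e1, e2⟩ := gU_injective h (congrArg (fun w => (w : {x // x ∈ X ∧ x ∈ borel h}).1) e)
        exact Prod.ext (Units.ext e1) e2
      · rintro ⟨x, hx, hxb⟩
        obtain ⟨a, b, ha, rfl⟩ := four_form h ((hmX x).mp hx).1 ((hmX x).mp hx).2 hxb
        exact ⟨(Units.mk0 a ha, b), rfl⟩
    · obtain ⟨a, b⟩ := (hmX x).mp hx
      have e : g * x * g⁻¹ * (g * x * g⁻¹) = g * (x * x) * g⁻¹ := by group
      refine (hmX _).mpr ⟨?_, ?_⟩
      · rw [e]; exact (conj_invol_iff h).1.mpr a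
      · rw [e]; exact fun e' => b (conj_eq_one_iff.mp e')
    · obtain ⟨a, b⟩ := (hmX x).mp hx
      exact two_elem_unique_fix h (n := 2) (by rwa [sq]) (by rwa [sq])
  have hconst : ∀ x : G F m, x * x * (x * x) = 1 → x * x ≠ 1 →
      (partsThrough k x).card = (partsThrough k (gU h 1 0)).card := by
    intro x a b
    obtain ⟨g, e | e⟩ := four_class h a b <;> rw [e, partsThrough_conj h]
    rw [partsThrough_inv h]
  have hd := double_count h hk X (x0 := x0) (c := 2 * k) (fun x hx => by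
    rw [hconst x ((hmX x).mp hx).1 ((hmX x).mp hx).2, hconst x0 h4 h2]) (fun U hU hUk => by
    have hUK : Nat.card U ∈ Ks m := hUk ▸ hk
    obtain ⟨i, hiN, i2, i1⟩ := exists_invol_normalizer h hU hUK
    set N := Subgroup.normalizer (U : Set (G F m)) with hN
    have hNc : Nat.card N = 4 * k := by rw [hN, card_normalizer_part h hU hUK, hUk, dOf, if_neg hkq]
    set A : Finset (G F m) := Finset.univ.filter fun y => y ∈ N with hA
    set B : Finset (G F m) := Finset.univ.filter fun y => y ∈ U with hB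
    set C : Finset (G F m) := B.image (fun u => i * u) with hC
    have hAc : A.card = 4 * k := by rw [← hNc, ← Fintype.card_subtype, ← Nat.card_eq_fintype_card]
    have hBc : B.card = k := by rw [← hUk, ← Fintype.card_subtype, ← Nat.card_eq_fintype_card]
    have hCc : C.card = k := by rw [hC, Finset.card_image_of_injective _ (mul_right_injective i), hBc]
    have hBC : Disjoint B C := by
      refine Finset.disjoint_left.mpr fun y hy hy' => ?_
      obtain ⟨u, hu, rfl⟩ := Finset.mem_image.mp hy'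
      simp only [hB, Finset.mem_filter, Finset.mem_univ, true_and] at hy hu
      obtain ⟨e1, e2⟩ := invol_mem_mul h hU hUK i2 i1 hiN hu
      have hd := Subgroup.orderOf_dvd_natCard U hy
      haveI : Fact (Nat.Prime 2) := ⟨Nat.prime_two⟩
      rw [orderOf_eq_prime (by rw [sq]; exact e1) e2] at hd
      exact ((Ks_facts h).1 _ hUK).2 hd
    have hsub : B ∪ C ⊆ A := by
      intro y hy
      simp only [hA, Finset.mem_filter, Finset.mem_univ, true_and]
      rcases Finset.mem_union.mp hy with hy | hy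
      · exact Subgroup.le_normalizer (Finset.mem_filter.mp hy).2
      · obtain ⟨u, hu, rfl⟩ := Finset.mem_image.mp hy
        exact mul_mem hiN (Subgroup.le_normalizer (Finset.mem_filter.mp hu).2)
    have hset : A \ (B ∪ C) = A.filter fun y => y * y * (y * y) = 1 ∧ y * y ≠ 1 := by
      ext y
      simp only [hA, Finset.mem_sdiff, Finset.mem_union, hB, hC, Finset.mem_image, Finset.mem_filter,
        Finset.mem_univ, true_and, not_or, not_exists, not_and]
      refine ⟨fun ⟨hyN, hyU, hyC⟩ => ⟨hyN, ?_, fun e => ?_⟩, fun ⟨hyN, e4, e2⟩ => ⟨hyN, fun hyU => ?_, fun u hu e => ?_⟩⟩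
      · have h4U := pow_four_mem h hU hUK hyN
        have e : y ^ 4 = y * y * (y * y) := by simp [pow_succ, mul_assoc]
        by_contra hne
        exact hyU (cent_eq h hU hUK h4U (e ▸ hne) (Commute.self_pow y 4).eq)
      · have hy1 : y ≠ 1 := fun e' => hyU (e' ▸ one_mem U)
        exact hyC (i * y) (invol_mul_mem h hU hUK i2 i1 hiN e hy1 hyN) (by rw [← mul_assoc, i2, one_mul])
      · have hd := Subgroup.orderOf_dvd_natCard U (mul_mem hyU hyU)
        haveI : Fact (Nat.Prime 2) := ⟨Nat.prime_two⟩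
        rw [orderOf_eq_prime (by rw [sq]; exact e4) e2] at hd
        exact ((Ks_facts h).1 _ hUK).2 hd
      · exact e2 (e ▸ (invol_mem_mul h hU hUK i2 i1 hiN hu).1)
    have hres : (A.filter fun y => y * y * (y * y) = 1 ∧ y * y ≠ 1).card = 2 * k := by
      rw [← hset, Finset.card_sdiff_of_subset hsub, Finset.card_union_of_disjoint hBC, hAc, hBc, hCc]
      omega
    rw [← hres, ← Fintype.card_coe, ← Nat.card_eq_fintype_card]
    exact Nat.card_congr (Equiv.subtypeEquivRight fun y => by simp [hA, hmX, and_comm]))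
  rw [hcnt, card_G h, dOf, if_neg hkq] at hd
  have hk0 : 0 < k := by have := ((Ks_facts h).1 k hk).1; omega
  have hq := h.q_ge
  refine Nat.eq_of_mul_eq_mul_right (show 0 < 2 * ((Fintype.card F ^ 2 + 1) * ((Fintype.card F - 1) * Fintype.card F) * k) from
    Nat.mul_pos (by norm_num) (Nat.mul_pos (Nat.mul_pos (by positivity) (Nat.mul_pos (by omega) (by omega))) hk0)) ?_
  calc _ = (partsThrough k x0).card * ((Fintype.card F ^ 2 + 1) * ((Fintype.card F - 1) * Fintype.card F)) * (4 * k) := by ring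
    _ = _ := hd
    _ = _ := by ring

/-- The solubilizer of a non-trivial `2`-element fixing the point at infinity. -/
theorem card_sol_two (hp : (2 * m + 1).Prime) {x : G F m} (hxb : x ∈ borel h) {n : ℕ}
    (hi2 : x ^ n * x ^ n = 1) (hi1 : x ^ n ≠ 1) :
    Nat.card {y // InSol x y} = Fintype.card F ^ 2 * (Fintype.card F - 1) +
      ((partsThrough (2 ^ (2 * m + 1) - 1) x).card * dOf F (2 ^ (2 * m + 1) - 1) * (2 ^ (2 * m + 1) - 1 - 1) +
        (partsThrough (2 ^ (2 * m + 1) + 2 ^ (m + 1) + 1) x).card * dOf F (2 ^ (2 * m + 1) + 2 ^ (m + 1) + 1) *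
          (2 ^ (2 * m + 1) + 2 ^ (m + 1) + 1 - 1) +
        (partsThrough (2 ^ (2 * m + 1) - 2 ^ (m + 1) + 1) x).card * dOf F (2 ^ (2 * m + 1) - 2 ^ (m + 1) + 1) *
          (2 ^ (2 * m + 1) - 2 ^ (m + 1) + 1 - 1)) := by
  classical
  letI : Fintype (G F m) := Fintype.ofFinite _
  letI : Fintype (Subgroup (G F m)) := Fintype.ofFinite _
  set i := x ^ n with hi
  have hib : i ∈ borel h := pow_mem hxb n
  set k1 := 2 ^ (2 * m + 1) - 1
  set k2 := 2 ^ (2 * m + 1) + 2 ^ (m + 1) + 1
  set k3 := 2 ^ (2 * m + 1) - 2 ^ (m + 1) + 1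
  set S : Finset (Subgroup (G F m)) := partsThrough k1 x ∪ partsThrough k2 x ∪ partsThrough k3 x with hS
  have hSm : ∀ U, U ∈ S ↔ IsCyclic U ∧ Nat.card U ∈ Ks m ∧ x ∈ Subgroup.normalizer (U : Set (G F m)) := by
    intro U
    simp only [hS, Finset.mem_union, mem_partsThrough h, Ks, Set.mem_insert_iff, Set.mem_singleton_iff]
    tauto
  set A : Finset (G F m) := Finset.univ.filter fun y => y ∈ borel h with hA
  let T : Subgroup (G F m) → Finset (G F m) := fun U =>
    Finset.univ.filter fun y => y ∈ Subgroup.normalizer (U : Set (G F m)) ∧ y ∉ borel h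
  have hfix : ∀ p, act h x p = p → p = oinf m := fun p hp' => by
    obtain ⟨r, -, hr⟩ := two_elem_unique_fix h hi2 hi1
    rw [hr p hp', hr (oinf m) hxb]
  have hset : (Finset.univ.filter fun y => InSol x y) = A ∪ S.biUnion T := by
    ext y
    simp only [Finset.mem_filter, Finset.mem_univ, true_and, Finset.mem_union, Finset.mem_biUnion, hA, T]
    rw [inSol_iff h hp]
    constructor
    · rintro ⟨U, hU, hxU, hyU⟩
      rcases hU with ⟨P, rfl⟩ | ⟨hc, hcard⟩
      · obtain ⟨k, hk⟩ := sylow_normalizer h P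
        left
        have e := hfix _ ((hk x).mp hxU)
        have := (hk y).mp hyU
        rwa [e] at this
      · by_cases hb : y ∈ borel h
        · exact Or.inl hb
        · exact Or.inr ⟨U, (hSm U).mpr ⟨hc, hcard, hxU⟩, hyU, hb⟩
    · rintro (hy | ⟨U, hU, hyU, -⟩)
      · obtain ⟨U, hU, hN⟩ := exists_part_point h (oinf (F := F) m)
        exact ⟨U, hU, (hN _).mpr hxb, (hN _).mpr hy⟩
      · obtain ⟨hc, hcard, hxU⟩ := (hSm U).mp hU
        exact ⟨U, Or.inr ⟨hc, hcard⟩, hxU, hyU⟩
  have hdis1 : Disjoint A (S.biUnion T) := by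
    refine Finset.disjoint_left.mpr fun y hy hy' => ?_
    obtain ⟨U, -, hyU⟩ := Finset.mem_biUnion.mp hy'
    exact (Finset.mem_filter.mp hyU).2.2 (Finset.mem_filter.mp hy).2
  have hdis2 : (S : Set (Subgroup (G F m))).PairwiseDisjoint T := by
    intro U hU V hV hne
    refine Finset.disjoint_left.mpr fun y hy hy' => hne ?_
    obtain ⟨hUc, hUK, hxU⟩ := (hSm U).mp hU
    obtain ⟨hVc, hVK, hxV⟩ := (hSm V).mp hV
    obtain ⟨hyU, hyb⟩ := (Finset.mem_filter.mp hy).2
    obtain ⟨hyV, -⟩ := (Finset.mem_filter.mp hy').2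
    have hiU : i ∈ Subgroup.normalizer (U : Set (G F m)) := pow_mem hxU n
    have hiV : i ∈ Subgroup.normalizer (V : Set (G F m)) := pow_mem hxV n
    by_cases h4 : y ^ 4 = 1
    · have key : ∀ j, j * j = 1 → j ≠ 1 → j ≠ i → j ∈ Subgroup.normalizer (U : Set (G F m)) →
          j ∈ Subgroup.normalizer (V : Set (G F m)) → U = V := by
        intro j j2 j1 hji hjU hjV
        refine part_unique h (Or.inr ⟨hUc, hUK⟩) (Or.inr ⟨hVc, hVK⟩) (invol_mul_mem h hUc hUK hi2 hi1 hiU j2 j1 hjU)
          (invol_mul_mem h hVc hVK hi2 hi1 hiV j2 j1 hjV) fun e => hji ?_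
        rw [eq_inv_of_mul_eq_one_right e]
        exact inv_eq_of_mul_eq_one_right hi2
      by_cases hy2 : y * y = 1
      · exact key y hy2 (fun e => hyb (e ▸ one_mem _)) (fun e => hyb (e ▸ hib)) hyU hyV
      · refine key (y * y) (by simpa [pow_succ, mul_assoc] using h4) hy2 (fun e => hyb ?_) (mul_mem hyU hyU) (mul_mem hyV hyV)
        obtain ⟨p, -, hpu⟩ := two_elem_unique_fix h (x := y) (n := 2) (by rw [← pow_add]; exact h4) (by rwa [sq])
        obtain ⟨p', hp', -⟩ := two_elem_unique_fix h (x := y) (n := 2) (by rw [← pow_add]; exact h4) (by rwa [sq])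
        have h5 : act h (y * y) p' = p' := by rw [act_mul, hp', hp']
        rw [e] at h5
        have h6 : p' = oinf m := invol_fix_unique h hi2 hi1 h5 hib
        rw [h6] at hp'
        exact hp'
    · exact part_unique h (Or.inr ⟨hUc, hUK⟩) (Or.inr ⟨hVc, hVK⟩) (pow_four_mem h hUc hUK hyU)
        (pow_four_mem h hVc hVK hyV) h4
  have hT : ∀ U ∈ S, (T U).card = dOf F (Nat.card U) * (Nat.card U - 1) := by
    intro U hU
    obtain ⟨hc, hcard, hxU⟩ := (hSm U).mp hU
    have h1 : (Finset.univ.filter fun y => y ∈ Subgroup.normalizer (U : Set (G F m))).card =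
        dOf F (Nat.card U) * Nat.card U := by
      rw [← card_normalizer_part h hc hcard, ← Fintype.card_subtype, ← Nat.card_eq_fintype_card]
    have h2 : (Finset.univ.filter fun y => y ∈ Subgroup.normalizer (U : Set (G F m)) ∧ y ∈ borel h).card =
        dOf F (Nat.card U) := by
      rw [← card_inter_borel h hc hcard hi2 hi1 (pow_mem hxU n) hib, ← Fintype.card_subtype, ← Nat.card_eq_fintype_card]
      exact Nat.card_congr (Equiv.subtypeEquivRight fun y => Iff.rfl)
    have h3 := Finset.card_filter_add_card_filter_not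
      (s := Finset.univ.filter fun y => y ∈ Subgroup.normalizer (U : Set (G F m))) (fun y => y ∈ borel h)
    rw [Finset.filter_filter, Finset.filter_filter, h2, h1] at h3
    show (Finset.univ.filter fun y => y ∈ Subgroup.normalizer (U : Set (G F m)) ∧ y ∉ borel h).card = _
    rw [Nat.mul_sub, mul_one]
    omega
  have hgroup : ∀ k, ∀ U ∈ partsThrough k x, dOf F (Nat.card U) * (Nat.card U - 1) = dOf F k * (k - 1) := by
    intro k U hU
    rw [((mem_partsThrough h).mp hU).2.1]
  have h2r : 2 < 2 ^ (m + 1) := lt_of_lt_of_le (by norm_num : 2 < 2 ^ 2) (Nat.pow_le_pow_right (by norm_num) (by have := h.hm; omega))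
  have hrq : 2 ^ (m + 1) < 2 ^ (2 * m + 1) := Nat.pow_lt_pow_right (by norm_num) (by have := h.hm; omega)
  have hk12 : k1 ≠ k2 := by simp only [k1, k2]; omega
  have hk13 : k1 ≠ k3 := by simp only [k1, k3]; omega
  have hk23 : k2 ≠ k3 := by simp only [k2, k3]; omega
  have hd12 : Disjoint (partsThrough k1 x) (partsThrough k2 x) := Finset.disjoint_left.mpr fun U a b =>
    hk12 (((mem_partsThrough h).mp a).2.1.symm.trans ((mem_partsThrough h).mp b).2.1)
  have hd3 : Disjoint (partsThrough k1 x ∪ partsThrough k2 x) (partsThrough k3 x) := by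
    refine Finset.disjoint_left.mpr fun U a b => ?_
    rcases Finset.mem_union.mp a with a | a
    · exact hk13 (((mem_partsThrough h).mp a).2.1.symm.trans ((mem_partsThrough h).mp b).2.1)
    · exact hk23 (((mem_partsThrough h).mp a).2.1.symm.trans ((mem_partsThrough h).mp b).2.1)
  rw [Nat.card_eq_fintype_card, Fintype.card_subtype, hset, Finset.card_union_of_disjoint hdis1,
    Finset.card_biUnion hdis2, Finset.sum_congr rfl hT, hS, Finset.sum_union hd3, Finset.sum_union hd12,
    Finset.sum_congr rfl (hgroup k1), Finset.sum_congr rfl (hgroup k2), Finset.sum_congr rfl (hgroup k3),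
    Finset.sum_const, Finset.sum_const, Finset.sum_const, smul_eq_mul, smul_eq_mul, smul_eq_mul,
    ← mul_assoc, ← mul_assoc, ← mul_assoc]
  congr 1
  rw [← card_borel h, ← Fintype.card_subtype, ← Nat.card_eq_fintype_card]

end CfsgLib.Sz

namespace CfsgLib.Sz

variable {F : Type*} [Field F] [Fintype F] {m : ℕ} (h : Hyp F m) (hp : (2 * m + 1).Prime)
include h hp

theorem sol_order_two {x : G F m} (hx : orderOf x = 2) :
    Nat.card {y // InSol x y} = (2 ^ (2 * m + 1)) ^ 2 * (4 * 2 ^ (2 * m + 1) - 3) := by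
  have h2 : x * x = 1 := by rw [← sq, ← hx, pow_orderOf_eq_one]
  have h1 : x ≠ 1 := fun e => by rw [e, orderOf_one] at hx; omega
  obtain ⟨p, hfix⟩ := involution_fix h h2
  obtain ⟨k, hk⟩ := exists_move h p
  set x' := k⁻¹ * x * k with hx'
  have e : x = k * x' * k⁻¹ := by rw [hx']; group
  have h2' : x' * x' = 1 := by
    calc x' * x' = k⁻¹ * (x * x) * k := by rw [hx']; group
      _ = 1 := by rw [h2]; group
  have h1' : x' ≠ 1 := fun e' => h1 (by rw [e, e']; group)
  rw [e, card_sol_conj, card_sol_two h hp (n := 1) (conj_fix h hk hfix : x' ∈ borel h) (by rwa [pow_one]) (by rwa [pow_one]),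
    invol_parts_count h (by simp [Ks]) h2' h1', invol_parts_count h (by simp [Ks]) h2' h1',
    invol_parts_count h (by simp [Ks]) h2' h1', h.hF]
  have hle : 2 ^ (m + 1) ≤ 2 ^ (2 * m + 1) := Nat.pow_le_pow_right (by norm_num) (by omega)
  have hq : 2 ≤ 2 ^ (2 * m + 1) := Nat.le_self_pow (by omega) 2
  rw [← Nat.mul_add, ← Nat.mul_add, ← Nat.mul_add]
  congr 1
  generalize 2 ^ (2 * m + 1) = q at *
  generalize 2 ^ (m + 1) = r at *
  omega

theorem sol_order_four {x : G F m} (hx : orderOf x = 4) :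
    Nat.card {y // InSol x y} = (2 ^ (2 * m + 1)) ^ 2 * (2 ^ (2 * m + 1) + 3) := by
  have h4 : x * x * (x * x) = 1 := by
    have h0 := pow_orderOf_eq_one x
    rw [hx] at h0
    simpa [pow_succ, mul_assoc] using h0
  have h2 : x * x ≠ 1 := fun e => by
    have := orderOf_dvd_of_pow_eq_one (show x ^ 2 = 1 by rw [sq, e])
    rw [hx] at this
    exact absurd (Nat.le_of_dvd (by norm_num) this) (by norm_num)
  obtain ⟨p, hfix, -⟩ := two_elem_unique_fix h (n := 2) (by rwa [sq]) (by rwa [sq])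
  obtain ⟨k, hk⟩ := exists_move h p
  set x' := k⁻¹ * x * k with hx'
  have e : x = k * x' * k⁻¹ := by rw [hx']; group
  have hxx : x' * x' = k⁻¹ * (x * x) * k := by rw [hx']; group
  have h4' : x' * x' * (x' * x') = 1 := by
    calc x' * x' * (x' * x') = k⁻¹ * (x * x * (x * x)) * k := by rw [hxx]; group
      _ = 1 := by rw [h4]; group
  have h2' : x' * x' ≠ 1 := fun e' => h2 (by
    calc x * x = k * (x' * x') * k⁻¹ := by rw [hxx]; group
      _ = 1 := by rw [e']; group)
  have hord : orderOf x' = 4 := by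
    refine Eq.trans ?_ hx
    rw [e, show k * x' * k⁻¹ = MulAut.conj k x' from rfl, MulEquiv.orderOf_eq]
  have hempty : partsThrough (2 ^ (2 * m + 1) - 1) x' = ∅ := by
    refine Finset.eq_empty_of_forall_notMem fun U hU => ?_
    obtain ⟨hc, hk', hN⟩ := (mem_partsThrough h).mp hU
    have hd := Subgroup.orderOf_dvd_natCard _ hN
    rw [card_normalizer_part h hc (hk' ▸ (by simp [Ks])), hord, hk', dOf, if_pos (by rw [h.hF])] at hd
    have : 2 ∣ 2 ^ (2 * m + 1) := dvd_pow_self 2 (Nat.succ_ne_zero _)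
    have : 1 ≤ 2 ^ (2 * m + 1) := Nat.one_le_two_pow
    omega
  have hq : 2 ≤ 2 ^ (2 * m + 1) := Nat.le_self_pow (by omega) 2
  have hle : 2 ^ (m + 1) ≤ 2 ^ (2 * m + 1) := Nat.pow_le_pow_right (by norm_num) (by omega)
  have hlt : 2 ^ (m + 1) < 2 ^ (2 * m + 1) := Nat.pow_lt_pow_right (by norm_num) (by have := h.hm; omega)
  have hr4 : 4 ≤ 2 ^ (m + 1) :=
    (show 4 = 2 ^ 2 by norm_num).le.trans (Nat.pow_le_pow_right (by norm_num) (by have := h.hm; omega))
  have hne2 : 2 ^ (2 * m + 1) + 2 ^ (m + 1) + 1 ≠ Fintype.card F - 1 := by rw [h.hF]; omega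
  have hne3 : 2 ^ (2 * m + 1) - 2 ^ (m + 1) + 1 ≠ Fintype.card F - 1 := by rw [h.hF]; omega
  have c2 := four_parts_count h (k := 2 ^ (2 * m + 1) + 2 ^ (m + 1) + 1) (by simp [Ks]) hne2 h4' h2'
  have c3 := four_parts_count h (k := 2 ^ (2 * m + 1) - 2 ^ (m + 1) + 1) (by simp [Ks]) hne3 h4' h2'
  rw [h.hF] at c2 c3
  rw [e, card_sol_conj, card_sol_two h hp (n := 2) (conj_fix h hk hfix : x' ∈ borel h) (by rwa [sq]) (by rwa [sq]),
    hempty, Finset.card_empty, dOf, dOf, dOf, if_neg hne2, if_neg hne3, h.hF]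
  set S2 := (partsThrough (2 ^ (2 * m + 1) + 2 ^ (m + 1) + 1) x').card
  set S3 := (partsThrough (2 ^ (2 * m + 1) - 2 ^ (m + 1) + 1) x').card
  rw [zero_mul, zero_mul, zero_add, show S2 * 4 = 2 * (S2 * 2) by ring, show S3 * 4 = 2 * (S3 * 2) by ring, c2, c3,
    ← Nat.mul_add]
  set q := 2 ^ (2 * m + 1)
  set r := 2 ^ (m + 1)
  rw [show q + r + 1 - 1 + (q - r + 1 - 1) = 2 * q by omega, Nat.mul_sub, mul_one, Nat.mul_add]
  have : q ^ 2 ≤ q ^ 2 * q := Nat.le_mul_of_pos_right _ (by omega)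
  have e2 : 2 * q * (2 * q) = 4 * q ^ 2 := by ring
  omega

theorem sol_order_diag {x : G F m} (h1 : x ≠ 1) (hx : orderOf x ∣ 2 ^ (2 * m + 1) - 1) :
    Nat.card {y // InSol x y} = 2 * (2 ^ (2 * m + 1)) ^ 2 * (2 ^ (2 * m + 1) - 1) := by
  rw [← h.hF] at hx ⊢
  have hnf : ¬ Fpf h x := fun hf => by
    obtain ⟨u, hu, hxu⟩ := exists_tor_of_fpf h hf
    have h2 := (Subgroup.orderOf_dvd_natCard (tz u) hxu).trans (tz_facts h hu).2.1
    exact h1 (orderOf_eq_one_iff.mp (Nat.eq_one_of_dvd_coprimes (N_coprime h) h2 (hx.trans (Dvd.intro_left _ rfl))))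
  obtain ⟨p, hfix⟩ : ∃ p, act h x p = p := by simpa [Fpf] using hnf
  obtain ⟨k, hk⟩ := exists_move h p
  obtain ⟨a, b, s, hs⟩ := (mem_borel_iff h).mp (conj_fix h hk hfix : k⁻¹ * x * k ∈ borel h)
  have hord : orderOf (k⁻¹ * x * k) = orderOf x := by
    rw [show k⁻¹ * x * k = MulAut.conj k⁻¹ x by rw [MulAut.conj_apply, inv_inv], MulEquiv.orderOf_eq]
  have hs1 : s ≠ 1 := by
    intro e
    rw [e, gD_one, mul_one] at hs
    rw [hs] at hord
    have h4 := orderOf_dvd_of_pow_eq_one (gU_pow_four h a b)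
    rw [hord] at h4
    have h2 : Nat.Coprime (Fintype.card F - 1) (2 ^ 2) :=
      Nat.Coprime.pow_right _ ((Nat.Prime.coprime_iff_not_dvd Nat.prime_two).mpr
        fun h2 => odd_part h (Dvd.dvd.mul_left h2 _)).symm
    exact h1 (orderOf_eq_one_iff.mp (Nat.eq_one_of_dvd_coprimes h2 hx h4))
  obtain ⟨u, v, huv⟩ := gD_coords h (a := a) (b := b) hs1
  set d := gU h u v with hd
  obtain ⟨t, ht⟩ := eq_gD_of_fix_two h (g := (k * d)⁻¹ * x * (k * d))
    (conj_fix h (by rw [act_mul, hd, gU_oinf, hk]) hfix)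
    (conj_fix h (show act h (k * d) (opt m 0 0) = act h k (opt m u v) by rw [act_mul, hd, gU_smul_zero]) (by
      rw [show x = k * (gU h a b * gD h s) * k⁻¹ by rw [← hs]; group]
      exact conj_move h huv))
  have hx' : x = (k * d) * gD h t * (k * d)⁻¹ := by rw [← ht]; group
  have ht1 : t ≠ 1 := fun e => h1 (by rw [hx', e, gD_one]; group)
  rw [hx', card_sol_conj, card_sol_diag h hp ht1]

theorem sol_order_tor {x : G F m} (h1 : x ≠ 1) {k : ℕ}
    (hk : k = 2 ^ (2 * m + 1) + 2 ^ (m + 1) + 1 ∨ k = 2 ^ (2 * m + 1) - 2 ^ (m + 1) + 1) (hx : orderOf x ∣ k) :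
    Nat.card {y // InSol x y} = 4 * k := by
  have hr2 : 2 ^ (m + 1) * 2 ^ (m + 1) = 2 * 2 ^ (2 * m + 1) := by
    rw [← pow_add, ← pow_succ']; congr 1; omega
  set q := 2 ^ (2 * m + 1) with hq
  set r := 2 ^ (m + 1) with hr
  have hle : r ≤ q := Nat.pow_le_pow_right (by norm_num) (by omega)
  have hN : (q + r + 1) * (q - r + 1) = q ^ 2 + 1 := by
    obtain ⟨d, hd⟩ : ∃ d, q = r + d := ⟨q - r, by omega⟩
    rw [hd] at hr2
    rw [hd, Nat.add_sub_cancel_left]
    nlinarith
  have hcard : Fintype.card F = q := h.hF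
  have hkN : k ∣ Fintype.card F ^ 2 + 1 := by
    rw [hcard, ← hN]
    rcases hk with rfl | rfl
    · exact Dvd.intro _ rfl
    · exact Dvd.intro_left _ rfl
  have hf : Fpf h x := fun p hp' =>
    h1 (orderOf_eq_one_iff.mp (Nat.eq_one_of_dvd_coprimes (N_coprime h) (hx.trans hkN) (stab_order h hp')))
  obtain ⟨u, hu, hxu⟩ := exists_tor_of_fpf h hf
  rw [card_sol_tor h hp hu hxu h1]
  congr 1
  by_contra hne
  have h2 := Subgroup.orderOf_dvd_natCard (tz u) hxu
  have hAB : orderOf x ∣ q + r + 1 ∧ orderOf x ∣ q - r + 1 := by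
    rcases ((tori h).1 u hu).1 with e | e <;> rw [e, hcard] at h2 hne <;> rcases hk with rfl | rfl
    · exact absurd rfl hne
    · exact ⟨h2, hx⟩
    · exact ⟨hx, h2⟩
    · exact absurd rfl hne
  have h3 : orderOf x ∣ 2 * r := by
    have := Nat.dvd_sub hAB.1 hAB.2
    rwa [show q + r + 1 - (q - r + 1) = 2 * r by omega] at this
  have h4 : Nat.Coprime (Fintype.card F ^ 2 + 1) (2 * r) := by
    rw [hr, ← pow_succ']
    exact Nat.Coprime.pow_right _ ((Nat.Prime.coprime_iff_not_dvd Nat.prime_two).mpr (N_odd h)).symm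
  exact h1 (orderOf_eq_one_iff.mp (Nat.eq_one_of_dvd_coprimes h4 (hx.trans hkN) h3))

end CfsgLib.Sz
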