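import Cfsg.Agent.Sz.Solubilizer
set_option autoImplicit false

/-!
The square of every class of elements of order greater than two of the Suzuki group contains all
non-identity elements: the trace separates the semisimple classes.
-/

namespace CfsgLib.Sz.SquareCover

open Matrix

variable {F : Type*} [Field F] [Fintype F] {m : ℕ}

/-- The trace of an element. -/
def tr (g : G F m) : F := ((g : GL (Fin 4) F) : Matrix (Fin 4) (Fin 4) F).trace

omit [Fintype F] in
theorem tr_mul_comm (x y : G F m) : tr (x * y) = tr (y * x) := by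
  unfold tr
  simp only [Subgroup.coe_mul, Units.val_mul]
  exact Matrix.trace_mul_comm _ _

omit [Fintype F] in
theorem tr_conj (k x : G F m) : tr (k * x * k⁻¹) = tr x := by
  rw [tr_mul_comm, ← mul_assoc, inv_mul_cancel, one_mul]

omit [Fintype F] in
theorem tr_eq_of_isConj {x y : G F m} (hxy : IsConj x y) : tr x = tr y := by
  obtain ⟨c, rfl⟩ := isConj_iff.mp hxy
  exact (tr_conj c x).symm

variable (h : Hyp F m)
include h

/-- The opposite unipotent element. -/
def gV (a b : F) : G F m := gW h * gU h a b * gW h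

theorem tr_one : tr (1 : G F m) = 0 := by
  simp only [tr, Subgroup.coe_one, Units.val_one, Matrix.trace_one, Fintype.card_fin]
  exact_mod_cast h.four

theorem tr_gU (a b : F) : tr (gU h a b) = 0 := by
  show (Um m a b).trace = 0
  simp [Matrix.trace, Matrix.diag, Fin.sum_univ_four, Um]
  linear_combination h.four

theorem tr_gUW (a b : F) : tr (gU h a b * gW h) = fo m a b + th m a := by
  show (Um m a b * Wm F).trace = _
  simp [Matrix.trace, Matrix.diag, Fin.sum_univ_four, Matrix.mul_apply, Um, Wm]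

theorem tr_UV (a b a' b' : F) : tr (gU h a b * gV h a' b') =
    fo m a b * fo m a' b' + th m a * th m a' + a * th m a * b' + a' * th m a' * b := by
  show (Um m a b * (Wm F * Um m a' b' * Wm F)).trace = _
  simp [Matrix.trace, Matrix.diag, Fin.sum_univ_four, Matrix.mul_apply, Um, Wm]
  ring_nf
  simp [h.two, h.three, h.four]

theorem tr_VU_conj (w y z : F) :
    tr (gV h 0 w * (gU h 0 y * gV h 0 z * gU h 0 y)) = th m w * th m z * th m y ^ 2 := by
  show ((Wm F * Um m 0 w * Wm F) * (Um m 0 y * (Wm F * Um m 0 z * Wm F) * Um m 0 y)).trace = _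
  simp [Matrix.trace, Matrix.diag, Fin.sum_univ_four, Matrix.mul_apply, Um, Wm, fo]
  ring_nf
  simp [h.two, h.four]

theorem tr_canon (w : F) : tr (gV h 0 w * gU h 0 1) = th m w := by
  rw [tr_mul_comm, tr_UV]
  simp [fo]

theorem gU0_inv (b : F) : (gU h 0 b)⁻¹ = gU h 0 b := by
  rw [gU_inv, mul_zero, add_zero]

theorem gV_mul_self (w : F) : gV h 0 w * gV h 0 w = 1 := by
  unfold gV
  calc gW h * gU h 0 w * gW h * (gW h * gU h 0 w * gW h)
      = gW h * gU h 0 w * (gW h * gW h) * (gU h 0 w * gW h) := by group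
    _ = gW h * (gU h 0 w * gU h 0 w) * gW h := by rw [gW_sq]; group
    _ = 1 := by
        rw [gU_sq, th_zero, zero_mul, gU_zero, mul_one, gW_sq]

theorem gD_gV (s : Fˣ) (a b : F) : gD h s * gV h a b * (gD h s)⁻¹ =
    gV h (th m ((s⁻¹ : Fˣ) : F) * a) (th m ((s⁻¹ : Fˣ) : F) * ((s⁻¹ : Fˣ) : F) ^ 2 * b) := by
  have e1 : gD h s * gW h = gW h * gD h s⁻¹ := by
    rw [← gW_gD h s, show gW h * (gW h * gD h s * gW h) = (gW h * gW h) * gD h s * gW h by group,
      gW_sq, one_mul]
  have e2 : gW h * (gD h s)⁻¹ = (gD h s⁻¹)⁻¹ * gW h := by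
    have := congrArg (fun z => z⁻¹) e1
    simpa [gW_inv] using this
  unfold gV
  rw [← gD_gU h s⁻¹]
  calc gD h s * (gW h * gU h a b * gW h) * (gD h s)⁻¹
      = (gD h s * gW h) * gU h a b * (gW h * (gD h s)⁻¹) := by group
    _ = _ := by rw [e1, e2]; group

theorem lam_surj {c : F} (hc : c ≠ 0) : ∃ s : Fˣ, th m (s : F) * (s : F) ^ 2 = c := by
  let f : Fˣ → Fˣ := fun s => Units.mk0 (th m (s : F) * (s : F) ^ 2)
    (mul_ne_zero (fun e => s.ne_zero (th_eq_zero e)) (pow_ne_zero _ s.ne_zero))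
  have hf : Function.Injective f := by
    intro s t e
    have e' : th m (s : F) * (s : F) ^ 2 = th m (t : F) * (t : F) ^ 2 := congrArg Units.val e
    by_contra hne
    have hu : ((s * t⁻¹ : Fˣ) : F) ≠ 1 := fun e2 => hne (mul_inv_eq_one.mp (Units.ext e2))
    refine lam_ne h hu ?_
    have ht := t.ne_zero
    have htt : th m (t : F) ≠ 0 := fun e3 => ht (th_eq_zero e3)
    push_cast
    rw [th_mul, th_inv]
    field_simp
    linear_combination e'
  obtain ⟨s, hs⟩ := (Finite.injective_iff_surjective.mp hf) (Units.mk0 c hc)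
  exact ⟨s, congrArg Units.val hs⟩

theorem isConj_VU {w z : F} (hw : w ≠ 0) (hz : z ≠ 0) :
    ∃ w', w' ≠ 0 ∧ IsConj (gV h 0 w * gU h 0 z) (gV h 0 w' * gU h 0 1) := by
  obtain ⟨s, hs⟩ := lam_surj h (inv_ne_zero hz)
  refine ⟨th m ((s⁻¹ : Fˣ) : F) * ((s⁻¹ : Fˣ) : F) ^ 2 * w, mul_ne_zero (mul_ne_zero
    (fun e => (s⁻¹ : Fˣ).ne_zero (th_eq_zero e)) (pow_ne_zero _ (s⁻¹ : Fˣ).ne_zero)) hw,
    isConj_iff.mpr ⟨gD h s, ?_⟩⟩
  calc gD h s * (gV h 0 w * gU h 0 z) * (gD h s)⁻¹
      = (gD h s * gV h 0 w * (gD h s)⁻¹) * (gD h s * gU h 0 z * (gD h s)⁻¹) := by group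
    _ = _ := by rw [gD_gV, gD_gU, mul_zero, mul_zero, hs, inv_mul_cancel₀ hz]

/-- An element with cyclic centraliser is conjugate to a product of two standard involutions. -/
theorem semisimple_form {g : G F m} (hg : g ≠ 1)
    (hc : IsCyclic (Subgroup.centralizer ({g} : Set (G F m))))
    (hk : Nat.card (Subgroup.centralizer ({g} : Set (G F m))) ∈ Ks m) :
    ∃ w : F, w ≠ 0 ∧ IsConj g (gV h 0 w * gU h 0 1) := by
  obtain ⟨i, hiN, i2, i1⟩ := exists_invol_normalizer h hc hk
  obtain ⟨j2, j1⟩ := invol_mem_mul h hc hk i2 i1 hiN (mem_centralizer_self g)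
  set j := i * g with hj
  have hgij : g = i * j := by rw [hj, ← mul_assoc, i2, one_mul]
  have hg2 : g * g ≠ 1 := by
    intro e
    haveI : Fact (Nat.Prime 2) := ⟨Nat.prime_two⟩
    have h4 := Subgroup.orderOf_dvd_natCard _ (mem_centralizer_self g)
    rw [orderOf_eq_prime (by rw [sq]; exact e) hg] at h4
    exact ((Ks_facts h).1 _ hk).2 h4
  obtain ⟨p, hp⟩ := involution_fix h i2
  obtain ⟨r, hr⟩ := involution_fix h j2
  have hne : r ≠ p := by
    intro e
    rw [e] at hr
    obtain ⟨k, hk'⟩ := exists_move h p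
    obtain ⟨z, hz⟩ := borel_invol h (conj_fix h hk' hp) (by
      calc k⁻¹ * i * k * (k⁻¹ * i * k) = k⁻¹ * (i * i) * k := by group
        _ = 1 := by rw [i2]; group)
    obtain ⟨z', hz'⟩ := borel_invol h (conj_fix h hk' hr) (by
      calc k⁻¹ * j * k * (k⁻¹ * j * k) = k⁻¹ * (j * j) * k := by group
        _ = 1 := by rw [j2]; group)
    apply hg2
    calc g * g = k * ((k⁻¹ * i * k) * (k⁻¹ * j * k) * ((k⁻¹ * i * k) * (k⁻¹ * j * k))) * k⁻¹ := by
          rw [hgij]; group
      _ = 1 := by rw [hz, hz', gU_mul, gU_sq]; simp [gU_zero]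
  obtain ⟨k, k1, k2⟩ := exists_std h hne
  obtain ⟨z, hz⟩ := borel_invol h (conj_fix h k1 hr) (by
    calc k⁻¹ * j * k * (k⁻¹ * j * k) = k⁻¹ * (j * j) * k := by group
      _ = 1 := by rw [j2]; group)
  have hfix : act h (gW h * (k⁻¹ * i * k) * gW h) (oinf m) = oinf m := by
    rw [act_mul, act_mul, gW_oinf, conj_fix h k2 hp, gW_opt_zero]
  obtain ⟨w, hw⟩ := borel_invol h hfix (by
    calc gW h * (k⁻¹ * i * k) * gW h * (gW h * (k⁻¹ * i * k) * gW h)
        = gW h * (k⁻¹ * i * k) * (gW h * gW h) * (k⁻¹ * i * k) * gW h := by group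
      _ = gW h * (k⁻¹ * (i * i) * k) * gW h := by rw [gW_sq]; group
      _ = gW h * gW h := by rw [i2]; group
      _ = 1 := gW_sq h)
  have hiw : k⁻¹ * i * k = gV h 0 w := by
    rw [gV, ← hw]
    calc k⁻¹ * i * k = (gW h * gW h) * (k⁻¹ * i * k) * (gW h * gW h) := by rw [gW_sq]; group
      _ = _ := by group
  have hw0 : w ≠ 0 := fun e => i1 (by
    rw [e, gV, gU_zero, mul_one, gW_sq] at hiw
    calc i = k * (k⁻¹ * i * k) * k⁻¹ := by group
      _ = 1 := by rw [hiw]; group)
  have hz0 : z ≠ 0 := fun e => j1 (by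
    rw [e, gU_zero] at hz
    calc j = k * (k⁻¹ * j * k) * k⁻¹ := by group
      _ = 1 := by rw [hz]; group)
  obtain ⟨w', hw', hconj⟩ := isConj_VU h hw0 hz0
  refine ⟨w', hw', IsConj.trans (isConj_iff.mpr ⟨k⁻¹, ?_⟩) hconj⟩
  rw [← hiw, ← hz, hgij]
  group

/-- The two kinds of non-identity elements. -/
theorem cases' {g : G F m} (hg : g ≠ 1) :
    (∃ (a b : F), IsConj g (gU h a b)) ∨ (∃ w : F, w ≠ 0 ∧ IsConj g (gV h 0 w * gU h 0 1)) := by
  haveI : Fact (Nat.Prime 2) := ⟨Nat.prime_two⟩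
  rcases trich h g hg with ⟨h1, -⟩ | ⟨h1, h2⟩
  · obtain ⟨P, hP⟩ := h1.exists_le_sylow
    obtain ⟨k, hk⟩ := exists_conj_sylow h P
    have hgP := hP (mem_centralizer_self g)
    rw [hk] at hgP
    obtain ⟨u, ⟨a, b, hu⟩, hug⟩ := hgP
    refine Or.inl ⟨a, b, isConj_iff.mpr ⟨k⁻¹, ?_⟩⟩
    rw [← hug]
    show k⁻¹ * (k * u * k⁻¹) * k⁻¹⁻¹ = _
    rw [hu]
    group
  · exact Or.inr (semisimple_form h hg h1 h2)

/-- A non-zero trace determines the class. -/
theorem conj_of_tr {y : G F m} {w : F} (hw : w ≠ 0) (hy : tr y = th m w) :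
    IsConj y (gV h 0 w * gU h 0 1) := by
  have hT : th m w ≠ 0 := fun e => hw (th_eq_zero e)
  have hy1 : y ≠ 1 := fun e => hT (by rw [← hy, e, tr_one h])
  rcases cases' h hy1 with ⟨a, b, hc⟩ | ⟨w', hw', hc⟩
  · exact absurd (by rw [← hy, tr_eq_of_isConj hc, tr_gU]) hT
  · have e : th m w' = th m w := by rw [← hy, tr_eq_of_isConj hc, tr_canon]
    rwa [← h.th_injective e]

/-! ### The additive subgroup `{θ c + c}` -/

/-- The image of `c ↦ θ c + c`. -/
def Lg : AddSubgroup F where
  carrier := {b | ∃ c, b = th m c + c}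
  zero_mem' := ⟨0, by simp⟩
  add_mem' := by
    rintro _ _ ⟨c, rfl⟩ ⟨d, rfl⟩
    exact ⟨c + d, by rw [h.th_add]; ring⟩
  neg_mem' := by
    rintro _ ⟨c, rfl⟩
    exact ⟨c, by rw [h.neg]⟩

theorem mem_Lg {b : F} : b ∈ Lg h ↔ ∃ c, b = th m c + c := Iff.rfl

theorem one_notMem : (1 : F) ∉ Lg h := by
  rintro ⟨c, hc⟩
  have h1 := congrArg (th m) hc
  rw [th_one, h.th_add, h.th_th] at h1
  have h2 : c * (c + 1) = 0 := by linear_combination hc - h1 + c * h.two
  rcases mul_eq_zero.mp h2 with e | e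
  · rw [e, th_zero, add_zero] at hc; exact one_ne_zero hc
  · have ec : c = 1 := by linear_combination e - h.two
    rw [ec, th_one] at hc
    exact one_ne_zero (hc.trans (by linear_combination h.two))

theorem mem_or (b : F) : b ∈ Lg h ∨ b + 1 ∈ Lg h := by
  obtain ⟨c, hc | hc⟩ := L_surj_half h b
  · exact Or.inl ⟨c, hc⟩
  · exact Or.inr ⟨c, by rw [hc]; linear_combination h.two⟩

theorem add_one_mem {b : F} (hb : b ∉ Lg h) : b + 1 ∈ Lg h := (mem_or h b).resolve_left hb

theorem sum_mem {a b : F} (ha : a ∉ Lg h) (hb : b ∉ Lg h) : a + b ∈ Lg h := by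
  have := (Lg h).add_mem (add_one_mem h ha) (add_one_mem h hb)
  rwa [show a + 1 + (b + 1) = a + b by linear_combination h.two] at this

theorem th_mem_iff {b : F} : th m b ∈ Lg h ↔ b ∈ Lg h := by
  have hb : th m b + b ∈ Lg h := ⟨b, rfl⟩
  constructor
  · intro e
    have := (Lg h).sub_mem hb e
    rwa [add_sub_cancel_left] at this
  · intro e
    have := (Lg h).sub_mem hb e
    rwa [add_sub_cancel_right] at this

theorem all_mul_mem {κ : F} (hκ : ∀ v, v * κ ∈ Lg h) : κ = 0 := by
  by_contra h0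
  have := hκ κ⁻¹
  rw [inv_mul_cancel₀ h0] at this
  exact one_notMem h this

/-- `x ↦ κ x` preserves the subgroup only for `κ = 0, 1`. -/
theorem exists_notMem_mul {κ : F} (h0 : κ ≠ 0) (h1 : κ ≠ 1) : ∃ l ∈ Lg h, κ * l ∉ Lg h := by
  by_contra hcon
  push Not at hcon
  obtain ⟨μ, hμ⟩ := h.th_surjective κ
  have hd : μ + κ = 0 := by
    refine all_mul_mem h fun y => ?_
    have e1 := hcon (th m y + y) ⟨y, rfl⟩
    have e2 : th m (μ * y) + μ * y ∈ Lg h := ⟨_, rfl⟩
    have := (Lg h).add_mem e1 e2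
    rwa [th_mul, hμ, show κ * (th m y + y) + (κ * th m y + μ * y) = y * (μ + κ) by
      linear_combination (κ * th m y) * h.two] at this
  have hμκ : μ = κ := by linear_combination hd - κ * h.two
  rw [hμκ] at hμ
  exact th_ne_self h h0 h1 hμ

/-- The quadratic function used for the unipotent classes. -/
theorem exists_quad {R : F} (hR : R ≠ 0) : ∃ u : F, u ≠ 0 ∧ u * (1 + R * u ^ 2 ^ m) ∉ Lg h := by
  by_contra hcon
  push Not at hcon
  have hall : ∀ u : F, u * (1 + R * u ^ 2 ^ m) ∈ Lg h := fun u => by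
    by_cases hu : u = 0
    · rw [hu, zero_mul]; exact zero_mem _
    · exact hcon u hu
  haveI := h.charP
  have hσ : ∀ x y : F, (x + y) ^ 2 ^ m = x ^ 2 ^ m + y ^ 2 ^ m := fun x y => add_pow_char_pow x y 2 m
  have hthσ : ∀ v : F, th m (v ^ 2 ^ m) = v := by
    intro v
    have e : m + (m + 1) = 2 * m + 1 := by omega
    rw [th, ← pow_mul, ← pow_add, e, ← h.hF, FiniteField.pow_card]
  have key : ∀ u, th m R * th m u + R * u ^ 2 ^ m = 0 := fun u => all_mul_mem h fun v => by
    have e1 := (Lg h).sub_mem ((Lg h).sub_mem (hall (u + v)) (hall u)) (hall v)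
    rw [hσ, show (u + v) * (1 + R * (u ^ 2 ^ m + v ^ 2 ^ m)) - u * (1 + R * u ^ 2 ^ m) -
      v * (1 + R * v ^ 2 ^ m) = R * u * v ^ 2 ^ m + v * (R * u ^ 2 ^ m) by ring] at e1
    have e2 : th m (R * u * v ^ 2 ^ m) + R * u * v ^ 2 ^ m ∈ Lg h := ⟨_, rfl⟩
    have := (Lg h).add_mem e1 e2
    rwa [th_mul, th_mul, hthσ, show R * u * v ^ 2 ^ m + v * (R * u ^ 2 ^ m) +
      (th m R * th m u * v + R * u * v ^ 2 ^ m) = v * (th m R * th m u + R * u ^ 2 ^ m) by
      linear_combination (R * u * v ^ 2 ^ m) * h.two] at this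
  have hθR : th m R = R := by
    have := key 1
    rw [th_one, one_pow, mul_one, mul_one] at this
    linear_combination this - R * h.two
  obtain ⟨c, hc0, hc1⟩ := exists_ne_01 h
  have e := key c
  rw [hθR, show th m c = (c ^ 2 ^ m) ^ 2 by rw [th, ← pow_mul, pow_succ]] at e
  have hcσ : c ^ 2 ^ m = 1 := by
    have h3 : R * c ^ 2 ^ m * (c ^ 2 ^ m + 1) = 0 := by linear_combination e
    have h4 := (mul_eq_zero.mp h3).resolve_left (mul_ne_zero hR (pow_ne_zero _ hc0))
    linear_combination h4 - h.two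
  have := hthσ c
  rw [hcσ, th_one] at this
  exact hc1 this.symm

theorem isConj_gU_one {b b' : F} (hb : b + b' ∈ Lg h) : IsConj (gU h 1 b) (gU h 1 b') := by
  obtain ⟨c, hc⟩ := hb
  refine isConj_iff.mpr ⟨gU h c 0, ?_⟩
  rw [gU_inv, gU_mul, gU_mul]
  congr 1
  · linear_combination c * h.two
  · rw [h.th_add, th_one]; linear_combination -hc + b * h.two + (th m c * c) * h.two

theorem isConj_gU_gV (a b : F) : IsConj (gU h a b) (gV h a b) :=
  isConj_iff.mpr ⟨gW h, by rw [gW_inv]; rfl⟩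

theorem isConj_scale {a b : F} (ha : a ≠ 0) : IsConj (gU h 1 b) (gU h a (a * th m a * b)) := by
  obtain ⟨s, hs⟩ := th_unit_surj h ha
  refine isConj_iff.mpr ⟨gD h s, ?_⟩
  rw [gD_gU, hs, mul_one, show (s : F) ^ 2 = th m a by rw [← hs, h.th_th]]

theorem isConj_normalise {a b : F} (ha : a ≠ 0) : IsConj (gU h a b) (gU h 1 (b / (a * th m a))) := by
  have hna : a * th m a ≠ 0 := mul_ne_zero ha fun e => ha (th_eq_zero e)
  have := (isConj_scale h (b := b / (a * th m a)) ha).symm
  rwa [mul_div_cancel₀ b hna] at this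

/-- Products of two conjugates. -/
theorem finish {x g p q : G F m} (hp : IsConj x p) (hq : IsConj x q) (hg : IsConj g (p * q)) :
    ∃ u v : G F m, g = (u * x * u⁻¹) * (v * x * v⁻¹) := by
  obtain ⟨k, hk⟩ := isConj_iff.mp hp
  obtain ⟨l, hl⟩ := isConj_iff.mp hq
  obtain ⟨c, hc⟩ := isConj_iff.mp hg
  refine ⟨c⁻¹ * k, c⁻¹ * l, ?_⟩
  have e : g = c⁻¹ * (p * q) * c := by rw [← hc]; group
  rw [e, ← hk, ← hl]
  group

/-! ### Classes of elements of order four -/

theorem cover_four {x : G F m} {c : F} (hc : c = 0 ∨ c = 1) (hx : IsConj x (gU h 1 c))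
    (g : G F m) (hg : g ≠ 1) : ∃ u v : G F m, g = (u * x * u⁻¹) * (v * x * v⁻¹) := by
  rcases cases' h hg with ⟨a, b, hgu⟩ | ⟨w, hw, hgu⟩
  · by_cases ha : a = 0
    · subst ha
      have hb : b ≠ 0 := fun e => hg (by
        rw [e, gU_zero] at hgu; exact isConj_one_left.mp hgu)
      have e : gU h 1 c * gU h 1 c = gU h 0 1 := by rw [gU_sq, th_one, one_mul]
      obtain ⟨k, hk⟩ := gD_invol_transitive h hb one_ne_zero
      refine finish h hx hx (hgu.trans (isConj_iff.mpr ⟨k, ?_⟩))
      rw [hk, e]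
    · obtain ⟨t, ht0, ht1⟩ := exists_ne_01 h
      set K := (1 + t) * th m (1 + t) with hK
      have h1t : (1 : F) + t ≠ 0 := fun e => ht1 (by linear_combination e - h.two)
      have hK0 : K ≠ 0 := mul_ne_zero h1t fun e => h1t (th_eq_zero e)
      have hK1 : K⁻¹ ≠ 1 := fun e => ht0 (by
        have := norm_inj h (show (1 + t) * th m (1 + t) = 1 * th m (1 : F) by
          rw [th_one, mul_one, ← hK]; simpa using e)
        linear_combination this)
      obtain ⟨l, hl, hlK⟩ := exists_notMem_mul h (inv_ne_zero hK0) hK1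
      set b1 := (c + t * th m t * c + t) / K with hb1
      set b0 := b / (a * th m a) with hb0
      obtain ⟨e, he, heb⟩ : ∃ e, c + e ∈ Lg h ∧ b0 + (e + t * th m t * c + t) / K ∈ Lg h := by
        by_cases hd : b0 + b1 ∈ Lg h
        · exact ⟨c, by rw [show c + c = 0 by linear_combination c * h.two]; exact zero_mem _, hd⟩
        · refine ⟨c + l, by rwa [show c + (c + l) = l by linear_combination c * h.two], ?_⟩
          have := sum_mem h hd hlK
          rwa [hb1, show b0 + (c + t * th m t * c + t) / K + K⁻¹ * l =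
            b0 + (c + l + t * th m t * c + t) / K by ring] at this
      refine finish h (hx.trans (isConj_gU_one h he)) (hx.trans (isConj_scale h ht0))
        ((hgu.trans (isConj_normalise h ha)).trans ?_)
      rw [gU_mul, th_one, one_mul]
      exact (isConj_gU_one h heb).trans (isConj_normalise h h1t).symm
  · obtain ⟨R, hR⟩ := (Finite.injective_iff_surjective.mp h.sq_injective) (th m w)
    have hR' : R ^ 2 = th m w := hR
    have hR0 : R ≠ 0 := fun e => hw (th_eq_zero (by rw [← hR', e]; ring))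
    obtain ⟨u, hu0, hu⟩ := exists_quad h hR0
    set W0 := u * (1 + R * u ^ 2 ^ m) with hW0
    obtain ⟨d, hd⟩ := add_one_mem h hu
    obtain ⟨l, hl, hld⟩ : ∃ l, l ∈ Lg h ∧ th m l + l = W0 + 1 := by
      rcases mem_or h d with e | e
      · exact ⟨d, e, hd.symm⟩
      · exact ⟨d + 1, e, by rw [h.th_add, th_one]; linear_combination -hd + h.two⟩
    set α := u⁻¹ with hα
    have hcc : th m c + c = 0 := by
      rcases hc with rfl | rfl
      · simp
      · rw [th_one]; linear_combination h.two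
    have hee : c + (c + l) ∈ Lg h := by rwa [show c + (c + l) = l by linear_combination c * h.two]
    have hf : fo m 1 (c + l) = W0 := by
      simp only [fo, th_one, one_pow, one_mul, h.th_add]
      linear_combination hcc + hld + h.two
    have hx1 := hx.trans (isConj_gU_one h hee)
    have hx2 : IsConj x (gV h α (α * th m α * (c + l))) :=
      (hx1.trans (isConj_scale h (inv_ne_zero hu0))).trans (isConj_gU_gV h _ _)
    refine finish h hx1 hx2 (hgu.trans (conj_of_tr h hw ?_).symm)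
    rw [tr_UV, hf]
    have hf' : fo m α (α * th m α * (c + l)) = α ^ 2 * th m α * W0 := by
      rw [← hf]
      simp only [fo, th_one, one_pow, one_mul, th_mul, h.th_th]
      ring
    have hθu : th m u = (u ^ 2 ^ m) ^ 2 := by rw [th, ← pow_mul, pow_succ]
    have hαu : α * u = 1 := inv_mul_cancel₀ hu0
    have hθα : th m α * (u ^ 2 ^ m) ^ 2 = 1 := by rw [← hθu, ← th_mul, hαu, th_one]
    have hv : α * W0 + 1 = R * u ^ 2 ^ m := by
      rw [hW0]; linear_combination (1 + R * u ^ 2 ^ m) * hαu + h.two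
    rw [hf', th_one, ← hR']
    calc W0 * (α ^ 2 * th m α * W0) + 1 * th m α + 1 * 1 * (α * th m α * (c + l)) +
          α * th m α * (c + l)
        = th m α * (α * W0 + 1) ^ 2 := by
          linear_combination (α * th m α * (c + l) - th m α * α * W0) * h.two
      _ = R ^ 2 := by rw [hv]; linear_combination R ^ 2 * hθα

/-! ### Classes of semisimple elements -/

/-- A semisimple class contains an element `U(a,b) W` with `a ≠ 0`. -/
theorem exists_UW {w : F} (hw : w ≠ 0) : ∃ a b : F, a ≠ 0 ∧ fo m a b + th m a = th m w := by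
  classical
  set x := gV h 0 w * gU h 0 1 with hx
  have hT : th m w ≠ 0 := fun e => hw (th_eq_zero e)
  have hx1 : x ≠ 1 := fun e => hT (by rw [← tr_canon h w, ← hx, e, tr_one h])
  have hk : Nat.card (Subgroup.centralizer ({x} : Set (G F m))) ∈ Ks m := by
    rcases trich h x hx1 with ⟨h1, -⟩ | ⟨-, h2⟩
    · exfalso
      haveI : Fact (Nat.Prime 2) := ⟨Nat.prime_two⟩
      obtain ⟨P, hP⟩ := h1.exists_le_sylow
      obtain ⟨k, hk⟩ := exists_conj_sylow h P
      have hxP := hP (mem_centralizer_self x)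
      rw [hk] at hxP
      obtain ⟨u, ⟨a, b, hu⟩, hux⟩ := hxP
      apply hT
      rw [← tr_canon h w, ← hx, ← hux]
      show tr (k * u * k⁻¹) = 0
      rw [tr_conj, hu, tr_gU]
    · exact h2
  have hxx : x * x ≠ 1 := by
    intro e
    haveI : Fact (Nat.Prime 2) := ⟨Nat.prime_two⟩
    have h4 := Subgroup.orderOf_dvd_natCard _ (mem_centralizer_self x)
    rw [orderOf_eq_prime (by rw [sq]; exact e) hx1] at h4
    exact ((Ks_facts h).1 _ hk).2 h4
  -- the inverting involutions
  let I : Set (G F m) := {i | i * i = 1 ∧ i ≠ 1 ∧ i * x * i = x⁻¹}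
  have hi0 : gV h 0 w ∈ I := by
    refine ⟨gV_mul_self h w, fun e => ?_, ?_⟩
    · have : gU h 0 w = 1 := by
        have h2 : gW h * gU h 0 w * gW h = 1 := e
        calc gU h 0 w = (gW h * gW h) * gU h 0 w * (gW h * gW h) := by rw [gW_sq]; group
          _ = gW h * (gW h * gU h 0 w * gW h) * gW h := by group
          _ = 1 := by rw [h2, mul_one, gW_sq]
      exact hw ((gU_eq_one_iff h).mp this).2
    · rw [hx, _root_.mul_inv_rev, gU0_inv, inv_eq_of_mul_eq_one_right (gV_mul_self h w),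
        ← mul_assoc, gV_mul_self, one_mul]
  have hcardI : Nat.card I ≤ Nat.card (Subgroup.centralizer ({x} : Set (G F m))) := by
    refine Nat.card_le_card_of_injective (fun i => ⟨gV h 0 w * i.1, ?_⟩) ?_
    · obtain ⟨a2, -, ainv⟩ := hi0
      obtain ⟨i, i2, -, iinv⟩ := i
      rw [Subgroup.mem_centralizer_singleton_iff]
      have e1 : i * x = x⁻¹ * i := by
        calc i * x = i * x * (i * i) := by rw [i2, mul_one]
          _ = (i * x * i) * i := by group
          _ = x⁻¹ * i := by rw [iinv]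
      have e2 : gV h 0 w * x⁻¹ = x * gV h 0 w := by
        rw [← ainv]
        calc gV h 0 w * (gV h 0 w * x * gV h 0 w) = (gV h 0 w * gV h 0 w) * x * gV h 0 w := by group
          _ = _ := by rw [a2, one_mul]
      show gV h 0 w * i * x = x * (gV h 0 w * i)
      rw [mul_assoc, e1, ← mul_assoc, e2, mul_assoc]
    · intro i j e
      exact Subtype.ext (mul_left_cancel (congrArg Subtype.val e))
  -- a point moved by `x` fixed by no inverting involution
  let pt : I → Ov F m := fun i => (involution_fix h i.2.1).choose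
  have hpt : ∀ i : I, act h i.1 (pt i) = pt i := fun i => (involution_fix h i.2.1).choose_spec
  obtain ⟨Q, hQx, hQI⟩ : ∃ Q, act h x Q ≠ Q ∧ ∀ i : I, act h i.1 Q ≠ Q := by
    by_contra hcon
    push Not at hcon
    have hcov : (Set.univ : Set (Ov F m)) ⊆ {p | act h x p = p} ∪ Set.range pt := by
      intro p _
      by_cases hp : act h x p = p
      · exact Or.inl hp
      · obtain ⟨i, hi⟩ := hcon p hp
        exact Or.inr ⟨i, invol_fix_unique h i.2.1 i.2.2.1 (hpt i) hi⟩
    have hfix : ({p | act h x p = p} : Set (Ov F m)).ncard ≤ 2 := by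
      by_contra hgt
      obtain ⟨a, b, c, ha, hb, hc, hab, hac, hbc⟩ :=
        (Set.two_lt_ncard_iff (Set.toFinite _)).mp (not_le.mp hgt)
      exact hx1 (fix_le_two h hab hbc hac ha hb hc)
    have h1 := (Set.ncard_le_ncard hcov).trans (Set.ncard_union_le _ _)
    rw [Set.ncard_univ, card_ov] at h1
    have h2 : (Set.range pt).ncard ≤ Nat.card I := by
      rw [← Nat.card_coe_set_eq]
      exact Nat.card_le_card_of_surjective _ (Set.rangeFactorization_surjective (f := pt))
    have h3 : Nat.card (Subgroup.centralizer ({x} : Set (G F m))) ≤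
        2 * Fintype.card F + 1 := by
      have hr : 2 ^ (m + 1) ≤ 2 ^ (2 * m + 1) := Nat.pow_le_pow_right (by norm_num) (by omega)
      simp only [Ks, Set.mem_insert_iff, Set.mem_singleton_iff] at hk
      rw [h.hF]
      have := Nat.two_pow_pos (m + 1)
      have := Nat.two_pow_pos m
      omega
    have hq := h.q_ge
    nlinarith
  obtain ⟨k, k1, k2⟩ := exists_std h
    (show Q ≠ act h x⁻¹ Q from fun e => hQx (by
      conv_lhs => rw [e]
      rw [← act_mul, mul_inv_cancel, act_one]))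
  set y := k⁻¹ * x * k with hy
  have hy0 : act h y (opt m 0 0) = oinf m := by
    rw [hy, act_mul, act_mul, k2, ← act_mul h x x⁻¹, mul_inv_cancel, act_one, ← k1, ← act_mul,
      inv_mul_cancel, act_one]
  obtain ⟨a, b, s, hab⟩ := exists_gUD_of_fix h
    (show act h (y * gW h) (oinf m) = oinf m by rw [act_mul, gW_oinf, hy0])
  have hye : y = gU h a b * gD h s * gW h := by
    rw [← hab, mul_assoc, gW_sq, mul_one]
  obtain ⟨t0, ht0⟩ := (Finite.injective_iff_surjective.mp h.sq_injective) ((s⁻¹ : Fˣ) : F)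
  have ht0' : t0 ≠ 0 := fun e => (s⁻¹ : Fˣ).ne_zero (by rw [← ht0, e]; ring)
  set t : Fˣ := Units.mk0 t0 ht0'
  have hts : t * s * t = 1 := Units.ext (by
    push_cast [t, Units.val_mk0]
    rw [show t0 * (s : F) * t0 = t0 ^ 2 * (s : F) by ring, show t0 ^ 2 = ((s⁻¹ : Fˣ) : F) from ht0]
    exact s.inv_mul)
  have hWD : gW h * (gD h t)⁻¹ = gD h t * gW h := by
    rw [gD_inv, ← gW_gD h t, show gW h * (gW h * gD h t * gW h) = (gW h * gW h) * gD h t * gW h by group,
      gW_sq, one_mul]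
  have hy' : gD h t * y * (gD h t)⁻¹ =
      gU h (th m (t : F) * a) (th m (t : F) * (t : F) ^ 2 * b) * gW h := by
    rw [← gD_gU, hye]
    calc gD h t * (gU h a b * gD h s * gW h) * (gD h t)⁻¹
        = gD h t * gU h a b * gD h s * (gW h * (gD h t)⁻¹) := by group
      _ = gD h t * gU h a b * (gD h t)⁻¹ * (gD h t * gD h s * gD h t) * gW h := by
          rw [hWD]; group
      _ = _ := by rw [gD_mul, gD_mul, hts, gD_one, mul_one]
  have htr : fo m (th m (t : F) * a) (th m (t : F) * (t : F) ^ 2 * b) + th m (th m (t : F) * a) = th m w := by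
    rw [← tr_gUW h, ← hy', tr_conj, hy, show k⁻¹ * x * k = k⁻¹ * x * k⁻¹⁻¹ by rw [inv_inv], tr_conj,
      hx, tr_canon]
  refine ⟨_, _, mul_ne_zero (fun e => t.ne_zero (th_eq_zero e)) ?_, htr⟩
  intro ha
  subst ha
  have hb : b ≠ 0 := by
    intro e
    subst e
    apply hT
    rw [← htr]
    simp [fo]
  -- `U(0,b)` would invert `y`
  set i := k * gU h 0 b * k⁻¹ with hi
  have hinv : i ∈ I := by
    refine ⟨?_, ?_, ?_⟩
    · rw [hi, (conj_invol_iff h).1, gU_sq, th_zero, zero_mul, gU_zero]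
    · rw [hi, Ne, (conj_invol_iff h).2, gU_eq_one_iff]; exact fun e => hb e.2
    · have hDW : gD h s * gW h = gW h * (gD h s)⁻¹ := by
        rw [gD_inv, ← gW_gD h s, show gW h * (gW h * gD h s * gW h) = (gW h * gW h) * gD h s * gW h by group,
          gW_sq, one_mul]
      have hxk : x = k * y * k⁻¹ := by rw [hy]; group
      have e : gU h 0 b * y * gU h 0 b = y⁻¹ := by
        rw [hye]
        calc gU h 0 b * (gU h 0 b * gD h s * gW h) * gU h 0 b
            = (gU h 0 b * gU h 0 b) * (gD h s * gW h) * gU h 0 b := by group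
          _ = gW h * (gD h s)⁻¹ * gU h 0 b := by rw [gU_sq, th_zero, zero_mul, gU_zero, one_mul, hDW]
          _ = _ := by rw [_root_.mul_inv_rev, _root_.mul_inv_rev, gU0_inv, gW_inv, mul_assoc]
      calc i * x * i = k * (gU h 0 b * y * gU h 0 b) * k⁻¹ := by rw [hi, hxk]; group
        _ = x⁻¹ := by rw [e, hxk]; group
  refine hQI ⟨i, hinv⟩ ?_
  show act h i Q = Q
  rw [hi, ← k1, ← act_mul, inv_mul_cancel_right, act_mul, gU_oinf]

theorem four_of_gU {a b : F} (ha : a ≠ 0) :
    gU h a b * gU h a b * (gU h a b * gU h a b) = 1 ∧ gU h a b * gU h a b ≠ 1 := by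
  refine ⟨?_, fun e => ha ?_⟩
  · rw [gU_sq, gU_sq, th_zero, zero_mul, gU_zero]
  · rwa [← gU_sq_eq_one_iff h (b := b), sq]

theorem four_pair {z g : G F m} (hz4 : z * z * (z * z) = 1) (hz2 : z * z ≠ 1)
    (hg4 : g * g * (g * g) = 1) (hg2 : g * g ≠ 1) : IsConj g z ∨ IsConj g z⁻¹ := by
  obtain ⟨k, hk⟩ := four_class h hz4 hz2
  obtain ⟨l, hl⟩ := four_class h hg4 hg2
  rcases hk with rfl | rfl <;> rcases hl with rfl | rfl
  · exact Or.inl (isConj_iff.mpr ⟨k * l⁻¹, by group⟩)
  · exact Or.inr (isConj_iff.mpr ⟨k * l⁻¹, by group⟩)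
  · exact Or.inr (isConj_iff.mpr ⟨k * l⁻¹, by group⟩)
  · exact Or.inl (isConj_iff.mpr ⟨k * l⁻¹, by group⟩)

theorem fo_inv_arg (a b : F) : fo m a (b + th m a * a) = fo m a b := by
  simp only [fo, h.th_add, th_mul, h.th_th]
  linear_combination (a ^ 2 * th m a) * h.two

theorem cover_semi {x : G F m} {w : F} (hw : w ≠ 0) (hx : tr x = th m w)
    (g : G F m) (hg : g ≠ 1) : ∃ u v : G F m, g = (u * x * u⁻¹) * (v * x * v⁻¹) := by
  have hxw := conj_of_tr h hw hx
  have toX : ∀ p, tr p = th m w → IsConj x p := fun p hp => hxw.trans (conj_of_tr h hw hp).symm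
  have trW : ∀ a b, tr (gW h * gU h a b) = fo m a b + th m a := fun a b => by
    rw [tr_mul_comm, tr_gUW]
  have prod : ∀ a b a' b', gU h a b * gW h * (gW h * gU h a' b') = gU h a b * gU h a' b' := by
    intro a b a' b'
    rw [show gU h a b * gW h * (gW h * gU h a' b') = gU h a b * (gW h * gW h) * gU h a' b' by group,
      gW_sq, mul_one]
  rcases cases' h hg with ⟨a, b, hgu⟩ | ⟨v, hv, hgu⟩
  · obtain ⟨a1, b1, ha1, hT⟩ := exists_UW h hw
    have ht1 : tr (gU h a1 b1 * gW h) = th m w := by rw [tr_gUW, hT]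
    have ht0 : fo m 0 w + th m (0 : F) = th m w := by simp [fo]
    by_cases ha : a = 0
    · subst ha
      have hb : b ≠ 0 := fun e => hg (by
        rw [e, gU_zero] at hgu; exact isConj_one_left.mp hgu)
      obtain ⟨d, hd0, hd⟩ : ∃ d, d ≠ 0 ∧ th m d = a1 * d := by
        let f : Fˣ → Fˣ := fun d => Units.mk0 (th m (d : F)) (fun e => d.ne_zero (th_eq_zero e)) / d
        have hf : Function.Injective f := by
          intro p r e
          have e' : th m (p : F) / p = th m (r : F) / r := by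
            simpa [f] using congrArg Units.val e
          by_contra hne
          refine th_ne_self h (c := (p : F) / r) (div_ne_zero p.ne_zero r.ne_zero)
            (fun e2 => hne (Units.ext (by rwa [div_eq_one_iff_eq r.ne_zero] at e2))) ?_
          have hr : th m (r : F) ≠ 0 := fun e3 => r.ne_zero (th_eq_zero e3)
          rw [div_eq_mul_inv, th_mul, th_inv]
          field_simp at e' ⊢
          linear_combination e'
        obtain ⟨d, hd⟩ := (Finite.injective_iff_surjective.mp hf) (Units.mk0 a1 ha1)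
        refine ⟨d, d.ne_zero, ?_⟩
        have := congrArg Units.val hd
        simp [f] at this
        rw [← this]
        field_simp
      have ht2 : tr (gW h * gU h a1 (b1 + d + th m a1 * a1)) = th m w := by
        rw [trW, fo_inv_arg h, ← hT]
        simp only [fo, h.th_add]
        linear_combination hd + (a1 * d) * h.two
      refine finish h (toX _ ht1) (toX _ ht2) (hgu.trans ?_)
      rw [prod, gU_mul, show a1 + a1 = 0 by linear_combination a1 * h.two,
        show b1 + (b1 + d + th m a1 * a1) + th m a1 * a1 = d by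
          linear_combination (b1 + th m a1 * a1) * h.two]
      obtain ⟨k, hk⟩ := gD_invol_transitive h hb hd0
      exact isConj_iff.mpr ⟨k, hk⟩
    · obtain ⟨hz4, hz2⟩ := four_of_gU h (b := b1 + w) ha1
      obtain ⟨hg4, hg2⟩ := four_of_gU h (b := b) ha
      rcases four_pair h hz4 hz2 hg4 hg2 with e | e
      · refine finish h (toX _ ht1) (toX (gW h * gU h 0 w) (by rw [trW, ht0])) (hgu.trans ?_)
        rw [prod, gU_mul, mul_zero, add_zero, add_zero]
        exact e
      · have ht3 : tr (gW h * gU h a1 (b1 + th m a1 * a1)) = th m w := by rw [trW, fo_inv_arg h, hT]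
        refine finish h (toX (gU h 0 w * gW h) (by rw [tr_gUW, ht0])) (toX _ ht3) (hgu.trans ?_)
        rw [prod, gU_mul, th_zero, zero_mul, add_zero, zero_add]
        rw [gU_inv] at e
        rwa [show b1 + w + th m a1 * a1 = w + (b1 + th m a1 * a1) by ring] at e
  · obtain ⟨z, hz⟩ : ∃ z : F, z = w := ⟨w, rfl⟩
    obtain ⟨y, hy⟩ := (Finite.injective_iff_surjective.mp h.sq_injective) v⁻¹
    set j := gU h 0 y * gV h 0 z * gU h 0 y with hj
    have hjj : j * j = 1 := by
      rw [hj, show gU h 0 y * gV h 0 z * gU h 0 y * (gU h 0 y * gV h 0 z * gU h 0 y) =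
        gU h 0 y * gV h 0 z * (gU h 0 y * gU h 0 y) * gV h 0 z * gU h 0 y by group,
        gU_sq, th_zero, zero_mul, gU_zero, mul_one,
        show gU h 0 y * gV h 0 z * gV h 0 z * gU h 0 y = gU h 0 y * (gV h 0 z * gV h 0 z) * gU h 0 y by group,
        gV_mul_self, mul_one, gU_sq, th_zero, zero_mul, gU_zero]
    have t1 : tr (gV h 0 v * j) = th m w := by
      rw [hj, tr_VU_conj, hz, ← th_pow, show y ^ 2 = v⁻¹ from hy, th_inv]
      have : th m v ≠ 0 := fun e => hv (th_eq_zero e)
      field_simp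
    have t2 : tr (j * gU h 0 1) = th m w := by
      rw [hj, show gU h 0 y * gV h 0 z * gU h 0 y * gU h 0 1 =
        gU h 0 y * (gV h 0 z * (gU h 0 y * gU h 0 1)) by group, tr_mul_comm, mul_assoc, gU_mul, gU_mul,
        show (0 : F) + 0 + 0 = 0 by ring, show y + 1 + th m (0 : F) * 0 + y + th m ((0 : F) + 0) * 0 = 1 by
          simp; linear_combination y * h.two, tr_canon, hz]
    refine finish h (toX _ t1) (toX _ t2) (hgu.trans ?_)
    rw [show gV h 0 v * j * (j * gU h 0 1) = gV h 0 v * (j * j) * gU h 0 1 by group, hjj, mul_one]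

theorem cover (x : G F m) (hx2 : 2 < orderOf x) (g : G F m) (hg : g ≠ 1) :
    ∃ u v : G F m, g = (u * x * u⁻¹) * (v * x * v⁻¹) := by
  have hx1 : x ≠ 1 := fun e => by rw [e, orderOf_one] at hx2; omega
  rcases cases' h hx1 with ⟨a, b, hxu⟩ | ⟨w, hw, hxu⟩
  · have ha : a ≠ 0 := by
      intro e
      subst e
      obtain ⟨k, hk⟩ := isConj_iff.mp hxu
      have h2 : x * x = 1 := by
        have hxe : x = k⁻¹ * gU h 0 b * k := by rw [← hk]; group
        rw [hxe, show k⁻¹ * gU h 0 b * k * (k⁻¹ * gU h 0 b * k) = k⁻¹ * (gU h 0 b * gU h 0 b) * k by group,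
          gU_sq, th_zero, zero_mul, gU_zero]
        group
      have := orderOf_le_of_pow_eq_one (x := x) (by norm_num : 0 < 2) (by rw [sq, h2])
      omega
    have hn := hxu.trans (isConj_normalise h ha)
    rcases mem_or h (b / (a * th m a)) with e | e
    · exact cover_four h (Or.inl rfl) (hn.trans (isConj_gU_one h (by rwa [add_zero]))) g hg
    · exact cover_four h (Or.inr rfl) (hn.trans (isConj_gU_one h e)) g hg
  · exact cover_semi h hw (by rw [tr_eq_of_isConj hxu, tr_canon]) g hg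

end CfsgLib.Sz.SquareCover
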